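import Groth.Agent.NefPos.Main
import Groth.Agent.EulerChar.AmpleCurve
import Groth.Agent.BigVol.CurveTest

/-!
# Nef modules and their ample twists
-/

set_option autoImplicit false
set_option linter.style.haveILetI false

universe u

open CategoryTheory CategoryTheory.Limits AlgebraicGeometry TopologicalSpace

noncomputable section

namespace Groth.Agent.NefPos

open Groth.Agent.ProjTwist Groth.Agent.IntProd70

variable (k : Type u) [Field k] {X : Scheme.{u}} [X.Over (Spec (CommRingCat.of k))]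
  [IsProper (X ↘ Spec (CommRingCat.of k))]

/-- A nef module twisted by an ample one is ample. -/
theorem isAmple_twist {L A : X.Modules} (hA : CohB1.IsAmple A) (hL : PicF.IsInvertible L) (hnef : Nef k X L)
    {p q : ℕ} (hp : 0 < p) (hq : 0 < q) :
    CohB1.IsAmple (CohB1.tensorMod (CohB1.tensorPow L q) (CohB1.tensorPow A p)) := by
  have hM := AmpleLib.isInvertible_tensorMod (AmpleLib.isInvertible_tensorPow hL q)
    (AmpleLib.isInvertible_tensorPow hA.1 p)
  refine isAmple_of_forall_intC_pos k hM fun y e he hy => ?_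
  have hye : topologicalKrullDim ↥(closure ({y} : Set X)) = (e : WithBot ℕ∞) := by
    rw [FibBound.topDim_closure_singleton k y, hy]
  have hcoh : Coh.IsCoh (Cyc.closureStructureSheaf y) := CohDev.isCoh_oz y
  have hs : topologicalKrullDim ↥(CohB1.support (Cyc.closureStructureSheaf y)) ≤ (e : WithBot ℕ∞) :=
    (CohDev.dim_mono (CohDev.support_oz_subset y)).trans hye.le
  rw [iC_ofFn k (fun _ => hM) (EulerChar.isCoh_quotMod k _), List.ofFn_const]
  have key : (0 : ℝ) < (q : ℝ) ^ e * P (Dfun k L A (Cyc.closureStructureSheaf y)) e 0 0 ((p : ℝ) / q) := by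
    refine mul_pos (by positivity) (P_pos (fun a b hab => small_nonneg k (holds k e) hA hL hnef hcoh hs a b hab)
      he ?_ (by positivity))
    obtain ⟨hdim, hint, heq⟩ := piece_eq k y hye (inv_word hL hL hA.1 0 0 e) (by rw [length_word]; omega)
    letI : (IntMult.ptIdeal y).subscheme.Over (Spec (CommRingCat.of k)) :=
      ⟨(IntMult.ptIdeal y).subschemeι ≫ (X ↘ Spec (CommRingCat.of k))⟩
    haveI : IsProper ((IntMult.ptIdeal y).subscheme ↘ Spec (CommRingCat.of k)) :=
      inferInstanceAs (IsProper ((IntMult.ptIdeal y).subschemeι ≫ (X ↘ Spec (CommRingCat.of k))))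
    haveI := hint
    have h := pos_ample k (Wt.AmpleThick.isAmple_pullback (IntMult.ptIdeal y).subschemeι hA)
      ((Scheme.Modules.pullback (IntMult.ptIdeal y).subschemeι).obj L) hdim (dim_support_structure hdim)
    show (0 : ℝ) < ((_ : ℤ) : ℝ)
    rw [heq]
    simpa [Dfun, word] using h
  rw [← expand k hL hA.1 hcoh hs p q hq e 0 0 (by omega)] at key
  have key' : (0 : ℤ) < iC k (word (CohB1.tensorMod (CohB1.tensorPow L q) (CohB1.tensorPow A p)) L A e 0 0)
      (Cyc.closureStructureSheaf y) := by exact_mod_cast key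
  have key'' : (0 : ℤ) < iC k (List.replicate e (CohB1.tensorMod (CohB1.tensorPow L q) (CohB1.tensorPow A p)))
      (Cyc.closureStructureSheaf y) := by simpa [word] using key'
  exact key''

theorem curveDeg_eq (C : X.IdealSheafData) (hC : topologicalKrullDim (C.support : Set X) = 1) {L : X.Modules}
    (hL : PicF.IsInvertible L) :
    Pic13.curveDeg k (C.subschemeι ≫ (X ↘ Spec (CommRingCat.of k))) ((Scheme.Modules.pullback C.subschemeι).obj L) =
      Curv2.euler k X (CohB1.tensorMod (ClSub.quotMod C) L) - Curv2.euler k X (ClSub.quotMod C) := by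
  letI : C.subscheme.Over (Spec (CommRingCat.of k)) := ⟨C.subschemeι ≫ (X ↘ Spec (CommRingCat.of k))⟩
  haveI : IsProper (C.subscheme ↘ Spec (CommRingCat.of k)) :=
    inferInstanceAs (IsProper (C.subschemeι ≫ (X ↘ Spec (CommRingCat.of k))))
  have hd : topologicalKrullDim C.subscheme ≤ ((1 : ℕ) : WithBot ℕ∞) := by
    rw [IsHomeomorph.topologicalKrullDim_eq _ (C.subschemeι.isEmbedding.toHomeomorph.trans
      (Homeomorph.setCongr C.range_subschemeι)).isHomeomorph]
    exact hC.le
  rw [BigVol.CurveTest.euler_sub_eq_deg k C hL, Pic13.curveDeg, Curv2.deg,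
    Snapper.eulerCharLE_eq k (X := C.subscheme) hd, Snapper.eulerCharLE_eq k (X := C.subscheme) hd,
    Nat.cast_one, one_mul]

theorem nef_of_curveDeg {L : X.Modules} (hL : PicF.IsInvertible L)
    (h : ∀ (Y : Scheme.{u}) (i : Y ⟶ X) [IsClosedImmersion i], IsIntegral Y → topologicalKrullDim Y = 1 →
      0 ≤ Pic13.curveDeg k (i ≫ (X ↘ Spec (CommRingCat.of k))) ((Scheme.Modules.pullback i).obj L)) :
    Nef k X L := fun C hC hdim => by
  rw [← curveDeg_eq k C hdim hL]
  refine h C.subscheme C.subschemeι hC ?_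
  rw [IsHomeomorph.topologicalKrullDim_eq _ (C.subschemeι.isEmbedding.toHomeomorph.trans
    (Homeomorph.setCongr C.range_subschemeι)).isHomeomorph]
  exact hdim

/-- A module with ample twists has nonnegative degree on a curve. -/
theorem curveDeg_nonneg {L A : X.Modules} (hA : CohB1.IsAmple A) (hL : PicF.IsInvertible L)
    (h : ∀ ν : ℕ, 0 < ν → CohB1.IsAmple (CohB1.tensorMod (CohB1.tensorPow L ν) A))
    (Y : Scheme.{u}) (i : Y ⟶ X) [IsClosedImmersion i] [IsIntegral Y] (hY : topologicalKrullDim Y = 1) :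
    0 ≤ Pic13.curveDeg k (i ≫ (X ↘ Spec (CommRingCat.of k))) ((Scheme.Modules.pullback i).obj L) := by
  letI : Y.Over (Spec (CommRingCat.of k)) := ⟨i ≫ (X ↘ Spec (CommRingCat.of k))⟩
  haveI : IsProper (Y ↘ Spec (CommRingCat.of k)) :=
    inferInstanceAs (IsProper (i ≫ (X ↘ Spec (CommRingCat.of k))))
  let L' := (Scheme.Modules.pullback i).obj L
  let A' := (Scheme.Modules.pullback i).obj A
  have hL' : PicF.IsInvertible L' := PicCl.isInvertible_pullback i hL
  have hA' : PicF.IsInvertible A' := PicCl.isInvertible_pullback i hA.1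
  have hd : topologicalKrullDim Y ≤ ((1 : ℕ) : WithBot ℕ∞) := by rw [hY]; simp
  have hdeg : 0 ≤ Curv2.deg k Y L' 1 := by
    by_contra! hneg
    let ν : ℕ := (Curv2.deg k Y A' 1).toNat + 1
    have hP := AmpleLib.isInvertible_tensorPow hL ν
    have hpos := EulerChar.deg_pos_of_isAmple k hY (Wt.AmpleThick.isAmple_pullback i (h ν (Nat.succ_pos _)))
    obtain ⟨e⟩ := PicLaw.pullback_tensor i hP hA.1
    have hd1 : topologicalKrullDim Y ≤ 1 := by rw [hY]
    have ht : Curv2.deg k Y (CohB1.tensorMod (CohB1.tensorPow L' ν) A') (1 * 1) =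
        (1 : ℕ) * Curv2.deg k Y A' 1 + (1 : ℕ) * Curv2.deg k Y (CohB1.tensorPow L' ν) 1 :=
      EulerChar.deg_tens k (ProjTwist.isFinLocFreeOfRank_one (AmpleLib.isInvertible_tensorPow hL' ν))
        hd1 (ProjTwist.isFinLocFreeOfRank_one hA')
    rw [EulerChar.deg_iso k (e ≪≫ tensCongr (AmpCrit.TwistDev.pullPowIso i L ν) (Iso.refl A'))] at hpos
    rw [Nat.mul_one, Nat.cast_one, one_mul, one_mul, EulerChar.deg_tensorPow k hY hL'] at ht
    rw [ht] at hpos
    have hν : (ν : ℤ) = ((Curv2.deg k Y A' 1).toNat : ℤ) + 1 := by simp [ν]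
    have hle : (ν : ℤ) * Curv2.deg k Y L' 1 ≤ (ν : ℤ) * (-1) :=
      mul_le_mul_of_nonneg_left (by omega) (Int.natCast_nonneg ν)
    have := Int.self_le_toNat (Curv2.deg k Y A' 1)
    linarith
  rw [Pic13.curveDeg, Snapper.eulerCharLE_eq k (X := Y) hd, Snapper.eulerCharLE_eq k (X := Y) hd]
  simpa [Curv2.deg] using hdeg

end Groth.Agent.NefPos
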