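import Groth.Agent.IntProd70.Degree
import Groth.Agent.IntProd70.Positive

/-!
# Intersection numbers indexed by lists
-/

set_option autoImplicit false
set_option linter.style.haveILetI false

universe u

open CategoryTheory CategoryTheory.Limits AlgebraicGeometry TopologicalSpace

noncomputable section

namespace Groth.Agent.NefPos

open Groth.Agent.ProjTwist Groth.Agent.Snapper Groth.Agent.IntProd70

variable {X : Scheme.{u}} (k : Type u) [Field k] [X.Over (Spec (CommRingCat.of k))]

/-- The intersection number `(A₁⋯A_r · G)`. -/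
def iC : List X.Modules → X.Modules → ℤ
  | [], G => Curv2.euler k X G
  | A :: l, G => iC l (CohB1.tensorMod A G) - iC l G

theorem iC_nil (G : X.Modules) : iC k ([] : List X.Modules) G = Curv2.euler k X G := rfl

theorem iC_cons (A : X.Modules) (l : List X.Modules) (G : X.Modules) :
    iC k (A :: l) G = iC k l (CohB1.tensorMod A G) - iC k l G := rfl

variable [IsProper (X ↘ Spec (CommRingCat.of k))]

theorem iC_iso : ∀ (l : List X.Modules) {G G' : X.Modules}, (G ≅ G') → iC k l G = iC k l G'
  | [], _, _, e => EulerChar.euler_iso k e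
  | A :: l, G, G', e => by
    rw [iC_cons, iC_cons, iC_iso l e, iC_iso l (tensCongr (Iso.refl A) e)]

theorem iC_congr {A B : X.Modules} (e : A ≅ B) (l : List X.Modules) (G : X.Modules) :
    iC k (A :: l) G = iC k (B :: l) G := by
  rw [iC_cons, iC_cons, iC_iso k l (tensCongr e (Iso.refl G))]

theorem iC_perm {l l' : List X.Modules} (h : l.Perm l') : ∀ G : X.Modules, iC k l G = iC k l' G := by
  induction h with
  | nil => exact fun _ => rfl
  | cons A _ ih => intro G; rw [iC_cons, iC_cons, ih, ih]
  | swap A B l =>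
    intro G
    rw [iC_cons, iC_cons, iC_cons, iC_cons, iC_cons, iC_cons]
    have := iC_iso k l ((tensAssoc A B G).symm ≪≫ tensLeftComm A B G)
    linarith
  | trans _ _ ih₁ ih₂ => exact fun G => (ih₁ G).trans (ih₂ G)

theorem iC_ofFn : ∀ {r : ℕ} {L : Fin r → X.Modules}, (∀ i, PicF.IsInvertible (L i)) →
    ∀ {G : X.Modules}, Coh.IsCoh G → intC k L G = iC k (List.ofFn L) G
  | 0, L, _, G, _ => by
    rw [intC, pow_zero, one_mul, intE_zero]
    rfl
  | r + 1, L, hL, G, hG => by
    have hA := hL 0
    have hN : ∀ i, PicF.IsInvertible (Fin.tail L i) := fun i => hL i.succ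
    rw [List.ofFn_succ, iC_cons, show (fun i : Fin r => L i.succ) = Fin.tail L from rfl,
      ← iC_ofFn hN (isCoh_tensorMod k hA hG), ← iC_ofFn hN hG]
    conv_lhs => rw [← Fin.cons_self_tail L]
    rw [intC, intC, intC, intE_cons k hN hA hG, map_sub, intK_kcl k hN (isCoh_tensorMod k hA hG),
      intK_kcl k hN hG, pow_succ]
    ring

variable {l : List X.Modules} (hl : ∀ A ∈ l, PicF.IsInvertible A)

include hl

theorem iC_get {G : X.Modules} (hG : Coh.IsCoh G) :
    iC k l G = intC k (fun i : Fin l.length => l.get i) G := by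
  rw [iC_ofFn k (fun i => hl _ (List.get_mem l i)) hG, List.ofFn_get]

theorem iC_mul {A B : X.Modules} (hA : PicF.IsInvertible A) (hB : PicF.IsInvertible B) {G : X.Modules}
    (hG : Coh.IsCoh G) (hd : topologicalKrullDim ↥(CohB1.support G) ≤ ((l.length + 1 : ℕ) : WithBot ℕ∞)) :
    iC k (CohB1.tensorMod A B :: l) G = iC k (A :: l) G + iC k (B :: l) G := by
  have hN : ∀ i : Fin l.length, PicF.IsInvertible (l.get i) := fun i => hl _ (List.get_mem l i)
  have key : ∀ {C : X.Modules}, PicF.IsInvertible C →
      iC k (C :: l) G = intC k (Fin.cons C (fun i : Fin l.length => l.get i)) G := fun {C} hC => by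
    rw [iC_ofFn k (fun i => by
      induction i using Fin.cases with
      | zero => simpa using hC
      | succ i => simpa using hN i) hG]
    simp [List.ofFn_succ]
  rw [key (AmpleLib.isInvertible_tensorMod hA hB), key hA, key hB, intC, intC, intC,
    intE_add k hN hA hB hG hd]
  ring

theorem iC_pow {A : X.Modules} (hA : PicF.IsInvertible A) {G : X.Modules} (hG : Coh.IsCoh G)
    (hd : topologicalKrullDim ↥(CohB1.support G) ≤ ((l.length + 1 : ℕ) : WithBot ℕ∞)) :
    ∀ m : ℕ, iC k (CohB1.tensorPow A m :: l) G = m * iC k (A :: l) G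
  | 0 => by
    rw [iC_cons, iC_iso k l (show CohB1.tensorMod (CohB1.tensorPow A 0) G ≅ G from oneTens G)]
    simp
  | m + 1 => by
    show iC k (CohB1.tensorMod (CohB1.tensorPow A m) A :: l) G = _
    rw [iC_mul k hl (AmpleLib.isInvertible_tensorPow hA m) hA hG hd, iC_pow hA hG hd m]
    push_cast
    ring

/-- The divisor rule. -/
theorem iC_cons_mono {A G : X.Modules} (hA : PicF.IsInvertible A) (hG : Coh.IsCoh G)
    (s : G ⟶ CohB1.tensorMod A G) [Mono s] (hQ : Coh.IsCoh (cokernel s)) :
    iC k (A :: l) G = iC k l (cokernel s) := by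
  have hN : ∀ i : Fin l.length, PicF.IsInvertible (l.get i) := fun i => hl _ (List.get_mem l i)
  have hAG := isCoh_tensorMod k hA hG
  have h := congrArg (intK k hN) (CohDev.kcl_mono s hG hAG)
  rw [map_add, intK_kcl k hN hAG, intK_kcl k hN hG, intK_kcl k hN hQ] at h
  rw [iC_cons, iC_get k hl hAG, iC_get k hl hG, iC_get k hl hQ, intC, intC, intC, h]
  ring

/-- Positivity is checked on the components of top dimension. -/
theorem iC_nonneg_of_pieces {G : X.Modules} (hG : Coh.IsCoh G) {e : ℕ} (he : l.length = e)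
    (hd : topologicalKrullDim ↥(CohB1.support G) ≤ (e : WithBot ℕ∞))
    (h : ∀ ξ : X, topologicalKrullDim ↥(closure ({ξ} : Set X)) = (e : WithBot ℕ∞) →
      0 ≤ iC k l (Cyc.closureStructureSheaf ξ)) : 0 ≤ iC k l G := by
  haveI := EulerChar.isNoetherian k (X := X)
  subst he
  have hT := CohDev.isClosed_support hG
  have hfin := finite_top hT hd
  have hs : ∀ ξ, ξ ∈ hfin.toFinset ↔
      ξ ∈ CohB1.support G ∧ topologicalKrullDim ↥(closure ({ξ} : Set X)) = (l.length : WithBot ℕ∞) :=
    fun ξ => hfin.mem_toFinset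
  have hN : ∀ i : Fin l.length, PicF.IsInvertible (l.get i) := fun i => hl _ (List.get_mem l i)
  rw [iC_get k hl hG, intC, intE_components k hN hT hd _ hs hG subset_rfl, Finset.mul_sum]
  refine Finset.sum_nonneg fun ξ hξ => ?_
  rw [mul_left_comm]
  refine mul_nonneg (Int.natCast_nonneg _) ?_
  have := h ξ ((hs ξ).1 hξ).2
  rwa [iC_get k hl (CohDev.isCoh_oz ξ)] at this

omit hl

variable {Y : Scheme.{u}} [Y.Over (Spec (CommRingCat.of k))] [IsProper (Y ↘ Spec (CommRingCat.of k))]

/-- Intersection numbers against a closed subscheme live on it. -/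
theorem iC_quotMod (D : X.IdealSheafData) [D.subscheme.Over (Spec (CommRingCat.of k))]
    [IsProper (D.subscheme ↘ Spec (CommRingCat.of k))]
    (w : D.subschemeι ≫ (X ↘ Spec (CommRingCat.of k)) = D.subscheme ↘ Spec (CommRingCat.of k))
    {l : List X.Modules} (hl : ∀ A ∈ l, PicF.IsInvertible A)
    (hd : topologicalKrullDim D.subscheme ≤ (l.length : WithBot ℕ∞)) :
    iC k l (ClSub.quotMod D) =
      iC k (l.map (Scheme.Modules.pullback D.subschemeι).obj) (Coh.structureModule D.subscheme) := by
  have hN : ∀ i : Fin l.length, PicF.IsInvertible (l.get i) := fun i => hl _ (List.get_mem l i)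
  rw [iC_get k hl (EulerChar.isCoh_quotMod k D), intC, intE_quotMod k D w hd hN, ← intC,
    iC_ofFn k (fun i => PicCl.isInvertible_pullback D.subschemeι (hN i)) (ProperFin.isCoh_structureModule _)]
  congr 1
  rw [show (fun i : Fin l.length => (Scheme.Modules.pullback D.subschemeι).obj (l.get i)) =
    (Scheme.Modules.pullback D.subschemeι).obj ∘ l.get from rfl, ← List.map_ofFn, List.ofFn_get]

end Groth.Agent.NefPos
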