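import Groth.Agent.NefPos.Binom
import Groth.Agent.NefPos.ListInt
import Groth.Agent.IntProd70.Nakai
import Groth.Agent.BigVol.CurvePull
import Groth.Agent.BigVol.Basic
import Groth.Agent.HilbLoc.Normal

/-!
# Kleiman's theorem on projective varieties
-/

set_option autoImplicit false
set_option linter.style.haveILetI false

universe u

open CategoryTheory CategoryTheory.Limits AlgebraicGeometry TopologicalSpace
open Groth.Agent.PullStalk.Sky Groth.Agent.PullStalk.Exact

noncomputable section

namespace Groth.Agent.NefPos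

open Groth.Agent.ProjTwist Groth.Agent.IntProd70

variable (k : Type u) [Field k]

/-- Nef: nonnegative degree on every integral curve. -/
def Nef (X : Scheme.{u}) [X.Over (Spec (CommRingCat.of k))] (L : X.Modules) : Prop :=
  ∀ C : X.IdealSheafData, IsIntegral C.subscheme → topologicalKrullDim (C.support : Set X) = 1 →
    0 ≤ Curv2.euler k X (CohB1.tensorMod (ClSub.quotMod C) L) - Curv2.euler k X (ClSub.quotMod C)

section

variable {X : Scheme.{u}}

/-- `M^j L^a A^b` -/
abbrev word (M L A : X.Modules) (j a b : ℕ) : List X.Modules :=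
  List.replicate j M ++ (List.replicate a L ++ List.replicate b A)

theorem inv_word {M L A : X.Modules} (hM : PicF.IsInvertible M) (hL : PicF.IsInvertible L)
    (hA : PicF.IsInvertible A) (j a b : ℕ) : ∀ B ∈ word M L A j a b, PicF.IsInvertible B := by
  intro B hB
  simp only [List.mem_append, List.mem_replicate] at hB
  rcases hB with ⟨-, rfl⟩ | ⟨-, rfl⟩ | ⟨-, rfl⟩ <;> assumption

theorem length_word (M L A : X.Modules) (j a b : ℕ) : (word M L A j a b).length = j + a + b := by
  simp only [List.length_append, List.length_replicate]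
  omega

variable [X.Over (Spec (CommRingCat.of k))] [IsProper (X ↘ Spec (CommRingCat.of k))]

/-- `(L^a A^b · G)` -/
def Dfun (L A G : X.Modules) (a b : ℕ) : ℝ := (iC k (word L L A 0 a b) G : ℝ)

/-- The expansion of the powers of `L^q ⊗ A^p`. -/
theorem expand {L A G : X.Modules} (hL : PicF.IsInvertible L) (hA : PicF.IsInvertible A) (hG : Coh.IsCoh G)
    {d : ℕ} (hd : topologicalKrullDim ↥(CohB1.support G) ≤ (d : WithBot ℕ∞)) (p q : ℕ) (hq : 0 < q) :
    ∀ j a b, j + a + b = d →
      (iC k (word (CohB1.tensorMod (CohB1.tensorPow L q) (CohB1.tensorPow A p)) L A j a b) G : ℝ) =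
        (q : ℝ) ^ j * P (Dfun k L A G) j a b ((p : ℝ) / q)
  | 0, a, b, _ => by simp [P, Dfun, word]
  | j + 1, a, b, h => by
    let M := CohB1.tensorMod (CohB1.tensorPow L q) (CohB1.tensorPow A p)
    have hM : PicF.IsInvertible M :=
      AmpleLib.isInvertible_tensorMod (AmpleLib.isInvertible_tensorPow hL q) (AmpleLib.isInvertible_tensorPow hA p)
    have hl := inv_word hM hL hA j a b
    have hlen : topologicalKrullDim ↥(CohB1.support G) ≤
        (((word M L A j a b).length + 1 : ℕ) : WithBot ℕ∞) := by
      rw [length_word, show j + a + b + 1 = d by omega]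
      exact hd
    have h1 : iC k (word M L A (j + 1) a b) G =
        q * iC k (word M L A j (a + 1) b) G + p * iC k (word M L A j a (b + 1)) G := by
      show iC k (M :: word M L A j a b) G = _
      rw [iC_mul k hl (AmpleLib.isInvertible_tensorPow hL q) (AmpleLib.isInvertible_tensorPow hA p) hG hlen,
        iC_pow k hl hL hG hlen, iC_pow k hl hA hG hlen,
        iC_perm k (show (L :: word M L A j a b).Perm (word M L A j (a + 1) b) from List.perm_middle.symm),
        iC_perm k (show (A :: word M L A j a b).Perm (word M L A j a (b + 1)) from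
          List.perm_middle.symm.trans (List.Perm.append_left _ List.perm_middle.symm))]
    rw [h1]
    push_cast
    rw [expand hL hA hG hd p q hq j (a + 1) b (by omega),
      expand hL hA hG hd p q hq j a (b + 1) (by omega), P, pow_succ]
    field_simp

omit [X.Over (Spec (CommRingCat.of k))] [IsProper (X ↘ Spec (CommRingCat.of k))] in
theorem dim_support_structure_le {d : ℕ} (hd : topologicalKrullDim X ≤ (d : WithBot ℕ∞)) (F : X.Modules) :
    topologicalKrullDim ↥(CohB1.support F) ≤ (d : WithBot ℕ∞) :=
  EulerChar.dim_support_le hd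

end

variable (X : Scheme.{u}) [X.Over (Spec (CommRingCat.of k))] [IsProper (X ↘ Spec (CommRingCat.of k))]

/-- Kleiman's inequalities in dimension `d`. -/
def Holds (d : ℕ) : Prop :=
  ∀ (Y : Scheme.{u}) [Y.Over (Spec (CommRingCat.of k))] [IsProper (Y ↘ Spec (CommRingCat.of k))]
    [IsIntegral Y] (L A : Y.Modules), CohB1.IsAmple A → PicF.IsInvertible L → Nef k Y L →
    topologicalKrullDim Y = (d : WithBot ℕ∞) → ∀ a b, a + b = d → 0 ≤ Dfun k L A (Coh.structureModule Y) a b

variable {X}

theorem pos_ample {A : X.Modules} (hA : CohB1.IsAmple A) (L : X.Modules) {d : ℕ}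
    (hd : topologicalKrullDim X = (d : WithBot ℕ∞))
    (hs : topologicalKrullDim ↥(CohB1.support (Coh.structureModule X)) = (d : WithBot ℕ∞)) :
    0 < Dfun k L A (Coh.structureModule X) 0 d := by
  obtain ⟨B, hB, ⟨e⟩⟩ := PicLaw.exists_inverse hA.1
  have hO := ProperFin.isCoh_structureModule X
  have h := intE_pos k (r := d) (L := fun _ => A) (M := fun _ => B) (fun _ => hA) (fun _ => ⟨e⟩) hO hs
  have h2 : 0 < intC k (fun _ : Fin d => A) (Coh.structureModule X) := by
    rw [intC, intE_inverse k (fun _ => hA.1) (fun _ => hB) (fun _ => ⟨e⟩) hO (dim_support_structure_le hd.le _),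
      ← mul_assoc, ← pow_add, ← two_mul, pow_mul]
    simpa using h
  rw [iC_ofFn k (fun _ => hA.1) hO, List.ofFn_const] at h2
  have : (0 : ℝ) < (iC k (List.replicate d A) (Coh.structureModule X) : ℝ) := by exact_mod_cast h2
  simpa [Dfun, word] using this

theorem support_structure_eq [IsIntegral X] : CohB1.support (Coh.structureModule X) = Set.univ :=
  Set.eq_univ_of_forall fun x => BigVol.nontrivial_stalk (LFFrame.isInvertible_structureModule X) x

theorem dim_support_structure [IsIntegral X] {d : ℕ} (hd : topologicalKrullDim X = (d : WithBot ℕ∞)) :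
    topologicalKrullDim ↥(CohB1.support (Coh.structureModule X)) = (d : WithBot ℕ∞) := by
  rw [support_structure_eq, IsHomeomorph.topologicalKrullDim_eq _ (Homeomorph.Set.univ X).isHomeomorph, hd]

theorem nef_pullback {Y : Scheme.{u}} [Y.Over (Spec (CommRingCat.of k))] [IsProper (Y ↘ Spec (CommRingCat.of k))]
    (f : Y ⟶ X) (hf : f ≫ (X ↘ Spec (CommRingCat.of k)) = Y ↘ Spec (CommRingCat.of k))
    {L : X.Modules} (hL : PicF.IsInvertible L) (h : Nef k X L) : Nef k Y ((Scheme.Modules.pullback f).obj L) :=
  fun C _ hdim => BigVol.CurvePull.test_nonneg k f hf hL h C hdim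

/-- The closure of a point as a variety. -/
theorem piece_eq (ξ : X) {e : ℕ} (hξ : topologicalKrullDim ↥(closure ({ξ} : Set X)) = (e : WithBot ℕ∞))
    {l : List X.Modules} (hl : ∀ B ∈ l, PicF.IsInvertible B) (hle : l.length = e) :
    letI : (IntMult.ptIdeal ξ).subscheme.Over (Spec (CommRingCat.of k)) :=
      ⟨(IntMult.ptIdeal ξ).subschemeι ≫ (X ↘ Spec (CommRingCat.of k))⟩
    topologicalKrullDim (IntMult.ptIdeal ξ).subscheme = (e : WithBot ℕ∞) ∧
      IsIntegral (IntMult.ptIdeal ξ).subscheme ∧
      iC k l (Cyc.closureStructureSheaf ξ) = iC k (l.map (Scheme.Modules.pullback (IntMult.ptIdeal ξ).subschemeι).obj)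
        (Coh.structureModule (IntMult.ptIdeal ξ).subscheme) := by
  let D := IntMult.ptIdeal ξ
  letI : D.subscheme.Over (Spec (CommRingCat.of k)) := ⟨D.subschemeι ≫ (X ↘ Spec (CommRingCat.of k))⟩
  haveI : IsProper (D.subscheme ↘ Spec (CommRingCat.of k)) :=
    inferInstanceAs (IsProper (D.subschemeι ≫ (X ↘ Spec (CommRingCat.of k))))
  have hdim : topologicalKrullDim D.subscheme = (e : WithBot ℕ∞) := by
    rw [IsHomeomorph.topologicalKrullDim_eq _ (D.subschemeι.isEmbedding.toHomeomorph.trans
      (Homeomorph.setCongr D.range_subschemeι)).isHomeomorph]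
    show topologicalKrullDim ↥(D.support : Set X) = _
    rw [CohDev.coe_support_ptIdeal, hξ]
  refine ⟨hdim, S16188.isIntegral_subscheme _ isIrreducible_singleton.closure, ?_⟩
  exact iC_quotMod k D rfl hl (hle.symm ▸ hdim.le)

/-- `(L^a A^b · G) ≥ 0` on small supports. -/
theorem small_nonneg {e : ℕ} (IH : Holds k e) {L A G : X.Modules} (hA : CohB1.IsAmple A)
    (hL : PicF.IsInvertible L) (hnef : Nef k X L) (hG : Coh.IsCoh G)
    (hd : topologicalKrullDim ↥(CohB1.support G) ≤ (e : WithBot ℕ∞)) (a b : ℕ) (hab : a + b = e) :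
    0 ≤ Dfun k L A G a b := by
  have hl := inv_word hL hL hA.1 0 a b
  suffices h : 0 ≤ iC k (word L L A 0 a b) G by exact Int.cast_nonneg h
  refine iC_nonneg_of_pieces k hl hG (by rw [length_word]; omega) hd fun ξ hξ => ?_
  obtain ⟨hdim, hint, heq⟩ := piece_eq k ξ hξ hl (by rw [length_word]; omega)
  let D := IntMult.ptIdeal ξ
  letI : D.subscheme.Over (Spec (CommRingCat.of k)) := ⟨D.subschemeι ≫ (X ↘ Spec (CommRingCat.of k))⟩
  haveI : IsProper (D.subscheme ↘ Spec (CommRingCat.of k)) :=
    inferInstanceAs (IsProper (D.subschemeι ≫ (X ↘ Spec (CommRingCat.of k))))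
  haveI := hint
  have h := IH D.subscheme _ _ (Wt.AmpleThick.isAmple_pullback D.subschemeι hA)
    (PicCl.isInvertible_pullback D.subschemeι hL) (nef_pullback k D.subschemeι rfl hL hnef) hdim a b hab
  rw [heq]
  have h' : (0 : ℤ) ≤ iC k (word ((Scheme.Modules.pullback D.subschemeι).obj L)
      ((Scheme.Modules.pullback D.subschemeι).obj L) ((Scheme.Modules.pullback D.subschemeι).obj A) 0 a b)
      (Coh.structureModule D.subscheme) := Int.cast_nonneg_iff.1 h
  simpa [word] using h'

theorem ample_twist {n : ℕ} (IH : ∀ e, e ≤ n → Holds k e) {L A : X.Modules} (hA : CohB1.IsAmple A)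
    (hL : PicF.IsInvertible L) (hnef : Nef k X L) (p q : ℕ) (hp : 0 < p) (hq : 0 < q) (x : X)
    (hx : VarDim.dimPt k X x ≤ n) :
    CohB1.IsAmple ((Scheme.Modules.pullback (IntMult.ptIdeal x).subschemeι).obj
      (CohB1.tensorMod (CohB1.tensorPow L q) (CohB1.tensorPow A p))) := by
  let D := IntMult.ptIdeal x
  let T := D.subscheme
  letI : T.Over (Spec (CommRingCat.of k)) := ⟨D.subschemeι ≫ (X ↘ Spec (CommRingCat.of k))⟩
  haveI : IsProper (T ↘ Spec (CommRingCat.of k)) :=
    inferInstanceAs (IsProper (D.subschemeι ≫ (X ↘ Spec (CommRingCat.of k))))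
  have hdT : topologicalKrullDim T ≤ (n : WithBot ℕ∞) := by
    rw [IsHomeomorph.topologicalKrullDim_eq _ (D.subschemeι.isEmbedding.toHomeomorph.trans
      (Homeomorph.setCongr D.range_subschemeι)).isHomeomorph]
    show topologicalKrullDim ↥(D.support : Set X) ≤ _
    rw [CohDev.coe_support_ptIdeal, FibBound.topDim_closure_singleton k x]
    exact_mod_cast hx
  let L' := (Scheme.Modules.pullback D.subschemeι).obj L
  let A' := (Scheme.Modules.pullback D.subschemeι).obj A
  have hL' : PicF.IsInvertible L' := PicCl.isInvertible_pullback _ hL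
  have hA' : CohB1.IsAmple A' := Wt.AmpleThick.isAmple_pullback D.subschemeι hA
  have hn' : Nef k T L' := nef_pullback k D.subschemeι rfl hL hnef
  have hM' := AmpleLib.isInvertible_tensorMod (AmpleLib.isInvertible_tensorPow hL' q)
    (AmpleLib.isInvertible_tensorPow hA'.1 p)
  refine AmpleLib.isAmple_of_iso ((PicLaw.pullback_tensor D.subschemeι (AmpleLib.isInvertible_tensorPow hL q)
    (AmpleLib.isInvertible_tensorPow hA.1 p)).some ≪≫ tensCongr (AmpCrit.TwistDev.pullPowIso _ L q)
      (AmpCrit.TwistDev.pullPowIso _ A p)).symm ?_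
  refine isAmple_of_forall_intC_pos k hM' fun y e he hy => ?_
  have hye : topologicalKrullDim ↥(closure ({y} : Set T)) = (e : WithBot ℕ∞) := by
    rw [FibBound.topDim_closure_singleton k y, hy]
  have hen : e ≤ n := by
    have h := (topologicalKrullDim_subspace_le T (closure ({y} : Set T))).trans hdT
    rw [hye] at h
    exact_mod_cast h
  have hcoh : Coh.IsCoh (Cyc.closureStructureSheaf y) := CohDev.isCoh_oz y
  have hs : topologicalKrullDim ↥(CohB1.support (Cyc.closureStructureSheaf y)) ≤ (e : WithBot ℕ∞) :=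
    (CohDev.dim_mono (CohDev.support_oz_subset y)).trans hye.le
  rw [iC_ofFn k (fun _ => hM') (EulerChar.isCoh_quotMod k _), List.ofFn_const]
  have key : (0 : ℝ) < (q : ℝ) ^ e * P (Dfun k L' A' (Cyc.closureStructureSheaf y)) e 0 0 ((p : ℝ) / q) := by
    refine mul_pos (by positivity) (P_pos (fun a b hab => small_nonneg k (IH e hen) hA' hL' hn' hcoh hs a b hab)
      he ?_ (by positivity))
    obtain ⟨hdim, hint, heq⟩ := piece_eq k y hye (inv_word hL' hL' hA'.1 0 0 e) (by rw [length_word]; omega)
    letI : (IntMult.ptIdeal y).subscheme.Over (Spec (CommRingCat.of k)) :=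
      ⟨(IntMult.ptIdeal y).subschemeι ≫ (T ↘ Spec (CommRingCat.of k))⟩
    haveI : IsProper ((IntMult.ptIdeal y).subscheme ↘ Spec (CommRingCat.of k)) :=
      inferInstanceAs (IsProper ((IntMult.ptIdeal y).subschemeι ≫ (T ↘ Spec (CommRingCat.of k))))
    haveI := hint
    have h := pos_ample k (Wt.AmpleThick.isAmple_pullback (IntMult.ptIdeal y).subschemeι hA')
      ((Scheme.Modules.pullback (IntMult.ptIdeal y).subschemeι).obj L') hdim (dim_support_structure hdim)
    show (0 : ℝ) < ((_ : ℤ) : ℝ)
    rw [heq]
    simpa [Dfun, word] using h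
  rw [← expand k hL' hA'.1 hcoh hs p q hq e 0 0 (by omega)] at key
  have key' : (0 : ℤ) < iC k (word (CohB1.tensorMod (CohB1.tensorPow L' q) (CohB1.tensorPow A' p)) L' A' e 0 0)
      (Cyc.closureStructureSheaf y) := by exact_mod_cast key
  have key'' : (0 : ℤ) < iC k (List.replicate e (CohB1.tensorMod (CohB1.tensorPow L' q) (CohB1.tensorPow A' p)))
      (Cyc.closureStructureSheaf y) := by simpa [word] using key'
  exact key''

/-- Cutting by a section of a power lowers the dimension. -/
theorem cut [IsIntegral X] {M : X.Modules} (hM : PicF.IsInvertible M) {d : ℕ}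
    (hd : topologicalKrullDim X = ((d + 1 : ℕ) : WithBot ℕ∞))
    (hpos : 0 < intC k (fun _ : Fin (d + 1) => M) (Coh.structureModule X))
    (hsub : ∀ x : X, x ≠ genericPoint X →
      CohB1.IsAmple ((Scheme.Modules.pullback (IntMult.ptIdeal x).subschemeι).obj M))
    {l : List X.Modules} (hl : ∀ B ∈ l, PicF.IsInvertible B) (hlen : l.length = d) :
    ∃ (m : ℕ) (Q : X.Modules), Coh.IsCoh Q ∧
      topologicalKrullDim ↥(CohB1.support Q) ≤ (d : WithBot ℕ∞) ∧
      ((m : ℤ) + 1) * iC k (M :: l) (Coh.structureModule X) = iC k l Q := by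
  haveI := EulerChar.isNoetherian k (X := X)
  obtain ⟨m, s, hs⟩ := exists_nonzero_section k hM hsub (Nat.succ_pos d) hd.le hpos
  have hO := LFFrame.isInvertible_structureModule X
  have hOc := ProperFin.isCoh_structureModule X
  have hP := AmpleLib.isInvertible_tensorPow hM (m + 1)
  have hPO := AmpleLib.isInvertible_tensorMod hP hO
  let s' : Coh.structureModule X ⟶ CohB1.tensorMod (CohB1.tensorPow M (m + 1)) (Coh.structureModule X) :=
    s ≫ (tensOne (CohB1.tensorPow M (m + 1))).inv
  have hs' : s' ≠ 0 := fun h => hs (by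
    rw [← cancel_mono (tensOne (CohB1.tensorPow M (m + 1))).inv, zero_comp]
    exact h)
  haveI : Mono s' := EulerChar.mono_of_ne_zero hO hPO s' hs'
  have hQ : Coh.IsCoh (cokernel s') :=
    CohDev.isCoh_cokernel s' hOc.1 (BigVol.isCoh_of_isInvertible hPO)
  refine ⟨m, cokernel s', hQ, Snapper.le_of_lt_succ ?_, ?_⟩
  · refine CohDev.dim_lt_of_irreducible (CohDev.isClosed_support hQ) (IrreducibleSpace.isIrreducible_univ X)
      (Set.subset_univ _) (fun h => ?_) ?_
    · exact CohDev.not_mem_support_cokernel s'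
        (EulerChar.bijective_stalk_generic hO hPO s' hs').2 (h (Set.mem_univ (genericPoint X)))
    · rw [IsHomeomorph.topologicalKrullDim_eq _ (Homeomorph.Set.univ X).isHomeomorph, hd]
  · rw [← iC_cons_mono k hl hP hOc s' hQ,
      iC_pow k hl hM hOc (dim_support_structure_le (hlen.symm ▸ hd.le) _) (m + 1)]
    push_cast
    ring

theorem holds_one : Holds k 1 := by
  intro Y _ _ _ L A hA hL hnef hd a b hab
  rcases Nat.lt_or_ge a 1 with ha | ha
  · obtain rfl : a = 0 := by omega
    obtain rfl : b = 1 := by omega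
    exact (pos_ample k hA L hd (dim_support_structure hd)).le
  · obtain rfl : a = 1 := by omega
    obtain rfl : b = 0 := by omega
    let C := (𝟙 Y : Y ⟶ Y).ker
    haveI : IsIntegral C.subscheme := by
      haveI : Nonempty C.subscheme := ⟨(𝟙 Y : Y ⟶ Y).toImage (genericPoint Y)⟩
      exact isIntegral_of_isOpenImmersion (inv (𝟙 Y : Y ⟶ Y).toImage)
    have hC : topologicalKrullDim (C.support : Set Y) = 1 := by
      rw [(𝟙 Y : Y ⟶ Y).support_ker, (𝟙 Y : Y ⟶ Y).isClosedEmbedding.isClosed_range.closure_eq,
        ← IsHomeomorph.topologicalKrullDim_eq _ (𝟙 Y : Y ⟶ Y).isEmbedding.toHomeomorph.isHomeomorph, hd]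
      rfl
    have h := hnef C inferInstance hC
    let e : ClSub.quotMod C ≅ Coh.structureModule Y :=
      HilbLoc.quotModIso (𝟙 Y) ≪≫ (Scheme.Modules.pushforwardId Y).app _
    rw [EulerChar.euler_iso k (tensCongr e (Iso.refl L) ≪≫ tensComm _ _), EulerChar.euler_iso k e] at h
    show (0 : ℝ) ≤ ((iC k (word L L A 0 1 0) (Coh.structureModule Y) : ℤ) : ℝ)
    exact Int.cast_nonneg h

/-- Kleiman's theorem on projective varieties. -/
theorem holds : ∀ d, Holds k d := by
  intro d
  induction d using Nat.strong_induction_on with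
  | _ d IH =>
    match d with
    | 0 =>
      intro Y _ _ _ L A hA hL hnef hd a b hab
      obtain rfl : a = 0 := by omega
      obtain rfl : b = 0 := by omega
      exact Int.cast_nonneg (EulerChar.euler_nonneg_of_support k (ProperFin.isCoh_structureModule Y)
        (dim_support_structure_le hd.le _))
    | 1 => exact holds_one k
    | d + 2 =>
      intro Y _ _ _ L A hA hL hnef hd
      haveI := EulerChar.isNoetherian k (X := Y)
      have hO := ProperFin.isCoh_structureModule Y
      have hsY := dim_support_structure hd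
      have h0 := pos_ample k hA L hd hsY
      have hdimlt : ∀ x : Y, x ≠ genericPoint Y → VarDim.dimPt k Y x ≤ d + 1 := by
        intro x hx
        have h1 := CohDev.dim_closure_lt (specializes_iff_mem_closure.1 (genericPoint_specializes x)) hx
          (n := d + 2) (le_of_eq (by rw [(genericPoint_spec Y).def,
            IsHomeomorph.topologicalKrullDim_eq _ (Homeomorph.Set.univ _).isHomeomorph, hd]))
        rw [FibBound.topDim_closure_singleton k x] at h1
        have : VarDim.dimPt k Y x < d + 2 := by exact_mod_cast h1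
        omega
      have hD : ∀ a b, a + b = d + 2 → 1 ≤ b → 0 ≤ Dfun k L A (Coh.structureModule Y) a b := by
        intro a b hab hb
        obtain ⟨b, rfl⟩ : ∃ c, b = c + 1 := ⟨b - 1, by omega⟩
        have hposA : 0 < intC k (fun _ : Fin (d + 1 + 1) => A) (Coh.structureModule Y) := by
          rw [iC_ofFn k (fun _ => hA.1) hO, List.ofFn_const]
          have : (0 : ℝ) < ((iC k (word L L A 0 0 (d + 2)) (Coh.structureModule Y) : ℤ) : ℝ) := h0
          simpa [word] using (Int.cast_pos.1 this)
        obtain ⟨m, Q, hQ, hQd, heq⟩ := cut k hA.1 (d := d + 1) hd hposA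
          (fun x _ => Wt.AmpleThick.isAmple_pullback _ hA) (inv_word hL hL hA.1 0 a b)
          (by rw [length_word]; omega)
        have h := small_nonneg k (IH (d + 1) (by omega)) hA hL hnef hQ hQd a b (by omega)
        have hQnn : 0 ≤ iC k (word L L A 0 a b) Q := Int.cast_nonneg_iff.1 h
        have hperm : (A :: word L L A 0 a b).Perm (word L L A 0 a (b + 1)) := by
          show (A :: (List.replicate a L ++ List.replicate b A)).Perm
            (List.replicate a L ++ A :: List.replicate b A)
          exact List.perm_middle.symm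
        rw [← heq, iC_perm k hperm] at hQnn
        exact Int.cast_nonneg (nonneg_of_mul_nonneg_right hQnn (by positivity))
      intro a b hab
      rcases Nat.eq_zero_or_pos b with rfl | hb
      swap
      · exact hD a b hab hb
      obtain rfl : a = d + 2 := by omega
      refine top_nonneg hD (by omega) h0 fun p q hp hq hP => ?_
      let M := CohB1.tensorMod (CohB1.tensorPow L q) (CohB1.tensorPow A p)
      have hM : PicF.IsInvertible M := AmpleLib.isInvertible_tensorMod
        (AmpleLib.isInvertible_tensorPow hL q) (AmpleLib.isInvertible_tensorPow hA.1 p)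
      have hex := expand k hL hA.1 hO hsY.le p q hq
      have hqpos : (0 : ℝ) < (q : ℝ) := by exact_mod_cast hq
      have hposM : 0 < intC k (fun _ : Fin (d + 1 + 1) => M) (Coh.structureModule Y) := by
        rw [iC_ofFn k (fun _ => hM) hO, List.ofFn_const]
        have h : (0 : ℝ) < ((iC k (word M L A (d + 2) 0 0) (Coh.structureModule Y) : ℤ) : ℝ) := by
          rw [hex (d + 2) 0 0 (by omega)]
          exact mul_pos (pow_pos hqpos _) hP
        simpa [word] using (Int.cast_pos.1 h)
      obtain ⟨m, Q, hQ, hQd, heq⟩ := cut k hM (d := d + 1) hd hposM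
        (fun x hx => ample_twist k (n := d + 1) (fun e he => IH e (by omega)) hA hL hnef p q hp hq x
          (hdimlt x hx)) (inv_word hM hL hA.1 d 1 0) (length_word M L A d 1 0)
      have hQ1 : (0 : ℝ) ≤ ((iC k (word M L A d 1 0) Q : ℤ) : ℝ) := by
        rw [expand k hL hA.1 hQ hQd p q hq d 1 0 (by omega)]
        exact mul_nonneg (pow_nonneg hqpos.le _) (P_nonneg
          (fun a b hab => small_nonneg k (IH (d + 1) (by omega)) hA hL hnef hQ hQd a b hab) (by positivity) d 1 0
          (by omega))
      rw [← heq] at hQ1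
      have hM1 : (0 : ℝ) ≤ ((iC k (word M L A (d + 1) 1 0) (Coh.structureModule Y) : ℤ) : ℝ) :=
        Int.cast_nonneg (nonneg_of_mul_nonneg_right (Int.cast_nonneg_iff.1 hQ1) (by positivity))
      rw [hex (d + 1) 1 0 (by omega)] at hM1
      exact nonneg_of_mul_nonneg_right hM1 (pow_pos hqpos _)

end Groth.Agent.NefPos
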