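import Groth.Agent.NefPos.Twist
import Groth.Agent.BigVol.NumEquiv
import Groth.Agent.BigVol.CohBound

/-!
# A nef module is big iff its top self-intersection is positive
-/

set_option autoImplicit false
set_option linter.style.haveILetI false

universe u

open CategoryTheory CategoryTheory.Limits AlgebraicGeometry TopologicalSpace Filter
open scoped Topology

noncomputable section

namespace Groth.Agent.NefPos

open Groth.Agent.ProjTwist Groth.Agent.IntProd70 Groth.Agent.BigVol Groth.Agent.BigVol.NumEquiv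

theorem tendsto_ascFactorial : ∀ i : ℕ,
    Tendsto (fun m : ℕ => (m.ascFactorial i : ℝ) / (m : ℝ) ^ i) atTop (𝓝 1)
  | 0 => by simp
  | i + 1 => by
    have h1 : Tendsto (fun m : ℕ => 1 + (i : ℝ) / (m : ℝ)) atTop (𝓝 1) := by
      simpa using tendsto_const_nhds.add (tendsto_const_div_atTop_nhds_zero_nat (i : ℝ))
    have h := h1.mul (tendsto_ascFactorial i)
    rw [one_mul] at h
    refine h.congr' ?_
    filter_upwards [eventually_gt_atTop 0] with m hm
    have hm' : (m : ℝ) ≠ 0 := by exact_mod_cast hm.ne'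
    rw [Nat.ascFactorial_succ, pow_succ]
    push_cast
    field_simp

theorem tendsto_choose_div {i r : ℕ} (hi : i ≤ r) :
    Tendsto (fun m : ℕ => ((m + i - 1).choose i : ℝ) / (m : ℝ) ^ r) atTop
      (𝓝 (if i = r then 1 / (i.factorial : ℝ) else 0)) := by
  have key : ∀ m : ℕ, ((m + i - 1).choose i : ℝ) / (m : ℝ) ^ i =
      (m.ascFactorial i : ℝ) / (m : ℝ) ^ i * (1 / (i.factorial : ℝ)) := fun m => by
    rw [Nat.ascFactorial_eq_factorial_mul_choose']
    have : (i.factorial : ℝ) ≠ 0 := by exact_mod_cast i.factorial_ne_zero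
    push_cast
    field_simp
  have h1 := (tendsto_ascFactorial i).mul_const (1 / (i.factorial : ℝ))
  rw [one_mul] at h1
  split_ifs with h
  · subst h
    exact h1.congr fun m => (key m).symm
  · obtain ⟨e, rfl⟩ : ∃ e, r = i + (e + 1) := ⟨r - i - 1, by omega⟩
    have h0 : Tendsto (fun m : ℕ => (1 / (m : ℝ)) ^ (e + 1)) atTop (𝓝 0) := by
      simpa using (tendsto_one_div_atTop_nhds_zero_nat (𝕜 := ℝ)).pow (e + 1)
    have h2 := h1.mul h0
    rw [mul_zero] at h2
    refine h2.congr fun m => ?_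
    rw [← key m, pow_add (m : ℝ) i, div_pow, one_pow, div_mul_div_comm, mul_one]

variable {X : Scheme.{u}}

/-- powers of the unit -/
theorem nonempty_unit_pow : ∀ j : ℕ,
    Nonempty (CohB1.tensorPow (Coh.structureModule X) j ≅ Coh.structureModule X)
  | 0 => ⟨Iso.refl _⟩
  | j + 1 => ⟨tensOne _ ≪≫ (nonempty_unit_pow j).some⟩

def powMap {M N : X.Modules} (e : M ≅ N) : ∀ j, CohB1.tensorPow M j ≅ CohB1.tensorPow N j
  | 0 => Iso.refl _
  | j + 1 => tensCongr (powMap e j) e

theorem nonempty_pow_cancel {P B : X.Modules} (e : CohB1.tensorMod P B ≅ Coh.structureModule X) (j : ℕ) :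
    Nonempty (CohB1.tensorMod (CohB1.tensorPow P j) (CohB1.tensorPow B j) ≅ Coh.structureModule X) :=
  ⟨(nonempty_tensorPow_tensor P B j).some.symm ≪≫ powMap e j ≪≫ (nonempty_unit_pow j).some⟩

variable (k : Type u) [Field k] [X.Over (Spec (CommRingCat.of k))] [IsProper (X ↘ Spec (CommRingCat.of k))]

/-- The Euler characteristics of powers grow like the self-intersection number. -/
theorem tendsto_euler_pow {L G : X.Modules} (hL : PicF.IsInvertible L) (hG : Coh.IsCoh G) {r : ℕ}
    (hd : topologicalKrullDim ↥(CohB1.support G) ≤ (r : WithBot ℕ∞)) :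
    Tendsto (fun m : ℕ => (Curv2.euler k X (CohB1.tensorMod (CohB1.tensorPow L m) G) : ℝ) / (m : ℝ) ^ r)
      atTop (𝓝 ((iC k (List.replicate r L) G : ℝ) / (r.factorial : ℝ))) := by
  obtain ⟨M, hM, ⟨e⟩⟩ := PicLaw.exists_inverse hL
  have htop : Snapper.intE k (fun _ : Fin r => M) G = iC k (List.replicate r L) G := by
    rw [← List.ofFn_const, ← iC_ofFn k (fun _ => hL) hG, intC,
      intE_inverse k (fun _ => hL) (fun _ => hM) (fun _ => ⟨e⟩) hG hd, ← mul_assoc, ← pow_add, ← two_mul,
      pow_mul]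
    simp
  have h : Tendsto (fun m : ℕ => ∑ i ∈ Finset.range (r + 1),
      ((m + i - 1).choose i : ℝ) / (m : ℝ) ^ r * (Snapper.intE k (fun _ : Fin i => M) G : ℝ)) atTop
      (𝓝 (∑ i ∈ Finset.range (r + 1),
        (if i = r then 1 / (i.factorial : ℝ) else 0) * (Snapper.intE k (fun _ : Fin i => M) G : ℝ))) :=
    tendsto_finsetSum _ fun i hi =>
      (tendsto_choose_div (Nat.lt_succ_iff.1 (Finset.mem_range.1 hi))).mul_const _
  rw [Finset.sum_eq_single r (fun i _ hi => by rw [if_neg hi, zero_mul])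
    (fun h => absurd (Finset.self_mem_range_succ r) h), if_pos rfl, htop, one_div_mul_eq_div] at h
  refine h.congr fun m => ?_
  rw [Snapper.euler_tensorPow_eq k hL hM e r m hG hd]
  push_cast
  rw [Finset.sum_div]
  exact Finset.sum_congr rfl fun i _ => by ring

theorem euler_eq_h0 {A G : X.Modules} (hA : CohB1.IsAmple A) (hG : Coh.IsCoh G) :
    ∃ m₀ : ℕ, ∀ m, m₀ ≤ m → Curv2.euler k X (CohB1.tensorMod (CohB1.tensorPow A m) G) =
      (h0 k (CohB1.tensorMod G (CohB1.tensorPow A m)) : ℤ) := by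
  obtain ⟨m₀, hm₀⟩ := AmpCrit.SerreVan.serre_vanishing (X ↘ Spec (CommRingCat.of k)) hA G hG
  refine ⟨m₀, fun m hm => ?_⟩
  rw [EulerChar.euler_iso k (tensComm (CohB1.tensorPow A m) G),
    EulerChar.euler_eq_sum k (t := 1) (fun p hp => hm₀ m hm p hp)]
  simp

theorem iC_unit (l : List X.Modules) : iC k (Coh.structureModule X :: l) (Coh.structureModule X) = 0 := by
  rw [iC_cons, iC_iso k l (oneTens (Coh.structureModule X)), sub_self]

variable {l : List X.Modules} (hl : ∀ A ∈ l, PicF.IsInvertible A)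

include hl

/-- Twists do not change numbers on small supports. -/
theorem iC_twist {A G : X.Modules} (hA : PicF.IsInvertible A) (hG : Coh.IsCoh G)
    (hd : topologicalKrullDim ↥(CohB1.support G) ≤ (l.length : WithBot ℕ∞)) :
    iC k l (CohB1.tensorMod A G) = iC k l G := by
  have hAl : ∀ B ∈ A :: l, PicF.IsInvertible B := fun B hB => by
    rcases List.mem_cons.1 hB with rfl | hB
    exacts [hA, hl _ hB]
  have h : iC k (A :: l) G = 0 := by
    rw [iC_get k hAl hG, intC, Snapper.intE_eq_zero k (fun i => hAl _ (List.get_mem _ i)) hG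
      (lt_of_le_of_lt hd (by exact_mod_cast Nat.lt_succ_self l.length)), mul_zero]
  rw [iC_cons, sub_eq_zero] at h
  exact h

variable {n : ℕ} (hn : topologicalKrullDim X ≤ (n : WithBot ℕ∞)) (hlen : l.length + 1 = n)

include hn hlen

theorem iC_inverse {A B : X.Modules} (hA : PicF.IsInvertible A) (hB : PicF.IsInvertible B)
    (e : CohB1.tensorMod A B ≅ Coh.structureModule X) :
    iC k (B :: l) (Coh.structureModule X) = - iC k (A :: l) (Coh.structureModule X) := by
  have h := iC_mul k hl hA hB (ProperFin.isCoh_structureModule X)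
    (dim_support_structure_le (hlen ▸ hn) _)
  rw [iC_congr k e, iC_unit k l] at h
  linarith

/-- The numbers of an effective divisor. -/
theorem iC_coker {B P : X.Modules} (hB : PicF.IsInvertible B) (hP : PicF.IsInvertible P)
    (e : CohB1.tensorMod P B ≅ Coh.structureModule X) (ψ : B ⟶ Coh.structureModule X) [Mono ψ]
    (hQ : Coh.IsCoh (cokernel ψ)) :
    iC k l (cokernel ψ) = iC k (P :: l) (Coh.structureModule X) := by
  have hN : ∀ i : Fin l.length, PicF.IsInvertible (l.get i) := fun i => hl _ (List.get_mem l i)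
  have hO := ProperFin.isCoh_structureModule X
  have hBc : Coh.IsCoh B := CohDev.isCoh_of_iso (tensOne B) (Snapper.isCoh_tensorMod k hB hO)
  have h := congrArg (Snapper.intK k hN) (CohDev.kcl_mono ψ hBc hO)
  rw [map_add, Snapper.intK_kcl k hN hBc, Snapper.intK_kcl k hN hO, Snapper.intK_kcl k hN hQ] at h
  have h1 : iC k (B :: l) (Coh.structureModule X) = iC k l B - iC k l (Coh.structureModule X) := by
    rw [iC_cons, iC_iso k l (tensOne B)]
  have h2 := iC_inverse k hl hn hlen hP hB e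
  rw [iC_get k hl hBc, iC_get k hl hO, intC, intC] at h1
  rw [iC_get k hl hQ, intC]
  linear_combination (norm := ring_nf) h1 - h2 + (-1 : ℤ) ^ l.length * (-h)

omit hl hn hlen

variable [IsIntegral X]

theorem ne_zero_of_mono {B : X.Modules} (hB : PicF.IsInvertible B) (ψ : B ⟶ Coh.structureModule X)
    [Mono ψ] : ψ ≠ 0 := fun h => by
  subst h
  exact not_isZero_of_isInvertible hB (IsZero.of_mono_zero _ (Coh.structureModule X))

omit [X.Over (Spec (CommRingCat.of k))] [IsProper (X ↘ Spec (CommRingCat.of k))] [IsIntegral X] in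
theorem nonempty_shift (Q R C N S : X.Modules) (e : CohB1.tensorMod R C ≅ N) :
    Nonempty (CohB1.tensorMod (CohB1.tensorMod Q R) (CohB1.tensorMod C S) ≅
      CohB1.tensorMod (CohB1.tensorMod Q N) S) :=
  ⟨tensAssoc Q R _ ≪≫ tensCongr (Iso.refl Q) ((tensAssoc R C S).symm ≪≫ tensCongr e (Iso.refl S)) ≪≫
    (tensAssoc Q N S).symm⟩

omit [X.Over (Spec (CommRingCat.of k))] [IsProper (X ↘ Spec (CommRingCat.of k))] [IsIntegral X] in
theorem nonempty_drop {A B : X.Modules} (hA : PicF.IsInvertible A) (a N j : ℕ)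
    (eB : CohB1.tensorMod (CohB1.tensorPow A a) B ≅ Coh.structureModule X) :
    Nonempty (CohB1.tensorMod (CohB1.tensorMod (Coh.structureModule X) (CohB1.tensorPow A (N + a * j)))
      (CohB1.tensorPow B j) ≅ CohB1.tensorPow A N) := by
  obtain ⟨e₁⟩ := nonempty_pow_mul hA a j
  obtain ⟨e₂⟩ := nonempty_pow_cancel eB j
  exact ⟨tensCongr (oneTens _ ≪≫ (AmpCrit.SerreVan.powAddIso A N (a * j)).symm ≪≫
    tensCongr (Iso.refl _) e₁.symm) (Iso.refl _) ≪≫ tensAssoc _ _ _ ≪≫
    tensCongr (Iso.refl _) e₂ ≪≫ tensOne _⟩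

omit [X.Over (Spec (CommRingCat.of k))] [IsProper (X ↘ Spec (CommRingCat.of k))] [IsIntegral X] in
theorem sub_mulSec [IsNoetherian X] {Q R : X.Modules} (hR : PicF.IsInvertible R) (hQ : Coh.IsCoh Q)
    (s : Coh.structureModule X ⟶ R) (hs : (_root_.AssSch.Ass Q : Set X) ⊆ CohB1.genLocus R s) :
    Sub Q (CohB1.tensorMod Q R) :=
  ⟨HilbPolyX.mulSec Q s, (CohBound.mulSec_drop hR hQ s hs).1⟩

/-- `h⁰(S) ≤ h⁰(B^j ⊗ S) + j·h⁰(Q' ⊗ S)`. -/
theorem h0_iter {A B : X.Modules} (hA : CohB1.IsAmple A) (hB : PicF.IsInvertible B) (a : ℕ)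
    (eB : CohB1.tensorMod (CohB1.tensorPow A a) B ≅ Coh.structureModule X)
    (ψ : B ⟶ Coh.structureModule X) [Mono ψ] (hQ : Coh.IsCoh (cokernel ψ)) (N₀ : ℕ)
    (hN₀ : ∀ N, N₀ ≤ N → ∃ σ : Γ(CohB1.tensorMod (Coh.structureModule X) (CohB1.tensorPow A N), ⊤),
      (_root_.AssSch.Ass (cokernel ψ) : Set X) ⊆ AmpleLib.locus σ)
    {S : X.Modules} (hS : PicF.IsInvertible S) : ∀ j, h0 k (CohB1.tensorMod (Coh.structureModule X) S) ≤
      h0 k (CohB1.tensorMod (CohB1.tensorPow B j) S) +
        j * h0 k (CohB1.tensorMod (CohB1.tensorMod (cokernel ψ) (CohB1.tensorPow A N₀)) S) := by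
  haveI := EulerChar.isNoetherian k (X := X)
  have hOi := LFFrame.isInvertible_structureModule X
  have hBj := fun j => AmpleLib.isInvertible_tensorPow hB j
  have hstep : ∀ j, h0 k (CohB1.tensorMod (CohB1.tensorPow B j) (S)) ≤
      h0 k (CohB1.tensorMod (CohB1.tensorPow B (j + 1)) (S)) +
        h0 k (CohB1.tensorMod (CohB1.tensorMod (cokernel ψ) (CohB1.tensorPow A N₀)) (S)) := by
    intro j
    let T := CohB1.tensorMod (CohB1.tensorPow B j) (S)
    have hT : PicF.IsInvertible T := AmpleLib.isInvertible_tensorMod (hBj j) hS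
    refine (h0_tensor_le k hB hT ψ inferInstance).trans (add_le_add (le_of_eq (Pn.finrank_hh_iso
      ((tensAssoc B _ _).symm ≪≫ tensCongr (tensComm B _) (Iso.refl _)) 0)) ?_)
    let R := CohB1.tensorMod (Coh.structureModule X) (CohB1.tensorPow A (N₀ + a * j))
    have hR : PicF.IsInvertible R := AmpleLib.isInvertible_tensorMod hOi (AmpleLib.isInvertible_tensorPow hA.1 _)
    obtain ⟨σ, hσ⟩ := hN₀ (N₀ + a * j) (Nat.le_add_right _ _)
    have hsub : Sub (cokernel ψ) (CohB1.tensorMod (cokernel ψ) R) :=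
      sub_mulSec hR hQ (Props.GenLocus.homOfSec σ) (by rw [AmpleLib.genLocus_homOfSec]; exact hσ)
    have hs' := hsub.tensor hT
    obtain ⟨eR⟩ := nonempty_drop hA.1 a N₀ j eB
    obtain ⟨e'⟩ := nonempty_shift (cokernel ψ) R (CohB1.tensorPow B j) (CohB1.tensorPow A N₀) S eR
    exact (h0_le_of_sub k (ProjTwist.isCoh_tensor hT (ProjTwist.isCoh_tensor hR hQ)) hs').trans
      (le_of_eq (Pn.finrank_hh_iso e' 0))
  have hsum : ∀ j, h0 k (CohB1.tensorMod (Coh.structureModule X) (S)) ≤
      h0 k (CohB1.tensorMod (CohB1.tensorPow B j) (S)) +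
        j * h0 k (CohB1.tensorMod (CohB1.tensorMod (cokernel ψ) (CohB1.tensorPow A N₀)) (S)) := by
    intro j
    induction j with
    | zero => exact le_of_eq (by rw [Nat.zero_mul, Nat.add_zero]; rfl)
    | succ j ih =>
      have := hstep j
      rw [Nat.succ_mul]
      omega
  exact hsum

theorem pos_of_big {L A : X.Modules} (hL : PicF.IsInvertible L) (hnef : Nef k X L) (hA : CohB1.IsAmple A)
    {ν : ℕ} (h : Sub A (CohB1.tensorPow L ν)) {d : ℕ}
    (hd : topologicalKrullDim X = ((d + 1 : ℕ) : WithBot ℕ∞)) :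
    0 < intC k (fun _ : Fin (d + 1) => L) (Coh.structureModule X) := by
  haveI := EulerChar.isNoetherian k (X := X)
  have hO := ProperFin.isCoh_structureModule X
  have hP := AmpleLib.isInvertible_tensorPow hL ν
  obtain ⟨I, hI, ⟨eI⟩⟩ := PicLaw.exists_inverse hP
  obtain ⟨A', hA', ⟨eA⟩⟩ := PicLaw.exists_inverse hA.1
  have hB := AmpleLib.isInvertible_tensorMod hA.1 hI
  obtain ⟨ψ, hψ⟩ : Sub (CohB1.tensorMod A I) (Coh.structureModule X) := (h.tensor hI).iso eI
  have hQ : Coh.IsCoh (cokernel ψ) := CohDev.isCoh_cokernel ψ (isQCoh_of_isInvertible hB) hO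
  have hQd := Snapper.le_of_lt_succ (dim_support_cokernel_lt hB hd.le ψ (ne_zero_of_mono hB ψ))
  have eP : CohB1.tensorMod (CohB1.tensorMod (CohB1.tensorPow L ν) A') (CohB1.tensorMod A I) ≅
      Coh.structureModule X :=
    (nonempty_middleFour (CohB1.tensorPow L ν) A' A I).some ≪≫
      tensAssoc _ _ _ ≪≫ tensCongr (Iso.refl _) ((tensAssoc _ _ _).symm ≪≫
        tensCongr eA (Iso.refl I) ≪≫ oneTens I) ≪≫ eI
  have step : ∀ a b, a + b = d →
      (iC k (word L L A 0 a (b + 1)) (Coh.structureModule X) : ℤ) ≤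
        ν * iC k (word L L A 0 (a + 1) b) (Coh.structureModule X) := by
    intro a b hab
    have hl := inv_word hL hL hA.1 0 a b
    have hlen : (word L L A 0 a b).length + 1 = d + 1 := by rw [length_word]; omega
    have h1 : 0 ≤ iC k (word L L A 0 a b) (cokernel ψ) :=
      Int.cast_nonneg_iff.1 (small_nonneg k (holds k d) hA hL hnef hQ hQd a b hab)
    rw [iC_coker k hl hd.le hlen hB (AmpleLib.isInvertible_tensorMod hP hA') eP ψ hQ,
      iC_mul k hl hP hA' hO (dim_support_structure_le (hlen.symm ▸ hd.le) _),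
      iC_pow k hl hL hO (dim_support_structure_le (hlen.symm ▸ hd.le) _),
      iC_inverse k hl hd.le hlen hA.1 hA' eA,
      iC_perm k (show (L :: word L L A 0 a b).Perm (word L L A 0 (a + 1) b) from List.Perm.refl _),
      iC_perm k (show (A :: word L L A 0 a b).Perm (word L L A 0 a (b + 1)) from
        (List.perm_middle (l₁ := List.replicate a L) (l₂ := List.replicate b A) (a := A)).symm)] at h1
    linarith
  have h0 : 0 < iC k (word L L A 0 0 (d + 1)) (Coh.structureModule X) :=
    Int.cast_pos.1 (pos_ample k hA L hd (dim_support_structure hd))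
  have key : ∀ a, a ≤ d + 1 → 0 < iC k (word L L A 0 a (d + 1 - a)) (Coh.structureModule X) := by
    intro a
    induction a with
    | zero => exact fun _ => h0
    | succ a ih =>
      intro ha
      have h1 := ih (by omega)
      have h2 := step a (d - a) (by omega)
      rw [show d + 1 - a = d - a + 1 by omega] at h1
      rw [show d + 1 - (a + 1) = d - a by omega]
      exact pos_of_mul_pos_right (lt_of_lt_of_le h1 h2) (Int.natCast_nonneg ν)
  have h1 := key (d + 1) le_rfl
  rw [iC_ofFn k (fun _ => hL) hO, List.ofFn_const]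
  simpa [word] using h1

theorem big_of_pos {L A : X.Modules} (hL : PicF.IsInvertible L) (hnef : Nef k X L) (hA : CohB1.IsAmple A)
    {d : ℕ} (hd : topologicalKrullDim X = ((d + 1 : ℕ) : WithBot ℕ∞))
    (hpos : 0 < intC k (fun _ : Fin (d + 1) => L) (Coh.structureModule X)) :
    ∃ (ν : ℕ) (A' : X.Modules) (φ : A' ⟶ CohB1.tensorPow L ν), 0 < ν ∧ CohB1.IsAmple A' ∧ Mono φ := by
  haveI := EulerChar.isNoetherian k (X := X)
  haveI := EulerChar.compactSpace k (X := X)
  have hO := ProperFin.isCoh_structureModule X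
  have hOi := LFFrame.isInvertible_structureModule X
  have hsupp := dim_support_structure hd
  rw [iC_ofFn k (fun _ => hL) hO, List.ofFn_const] at hpos
  -- an effective power of `A`
  have hposA : 0 < intC k (fun _ : Fin (d + 1) => A) (Coh.structureModule X) := by
    have h : (0 : ℤ) < iC k (word L L A 0 0 (d + 1)) (Coh.structureModule X) :=
      Int.cast_pos.1 (pos_ample k hA L hd hsupp)
    rw [iC_ofFn k (fun _ => hA.1) hO, List.ofFn_const]
    simpa [word] using h
  obtain ⟨m₀, s, hs⟩ := exists_nonzero_section k hA.1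
    (fun x _ => Wt.AmpleThick.isAmple_pullback _ hA) (Nat.succ_pos d) hd.le hposA
  have hs1 := sub_of_ne_zero hOi (AmpleLib.isInvertible_tensorPow hA.1 (m₀ + 1)) s hs
  obtain ⟨a, ha2, hsa⟩ : ∃ a : ℕ, 2 ≤ a ∧ Sub (Coh.structureModule X) (CohB1.tensorPow A a) :=
    ⟨m₀ + 1 + (m₀ + 1), by omega, sub_pow_add hA.1 hs1 hs1⟩
  have hP := AmpleLib.isInvertible_tensorPow hA.1 a
  obtain ⟨B, hB, ⟨eB⟩⟩ := PicLaw.exists_inverse hP
  obtain ⟨ψ, hψ⟩ : Sub B (Coh.structureModule X) :=
    ((Sub.of_iso (structure_tensor hB).some.symm).trans (hsa.tensor hB)).iso eB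
  have hQ : Coh.IsCoh (cokernel ψ) := CohDev.isCoh_cokernel ψ (isQCoh_of_isInvertible hB) hO
  have hQd := Snapper.le_of_lt_succ (dim_support_cokernel_lt hB hd.le ψ (ne_zero_of_mono hB ψ))
  -- the slope
  let Dd := Dfun k L A (Coh.structureModule X)
  have hP0 : 0 < P Dd (d + 1) 0 0 0 := by
    rw [P_zero, Nat.zero_add]
    show (0 : ℝ) < ((_ : ℤ) : ℝ)
    exact Int.cast_pos.2 (by simpa [word] using hpos)
  have hcont : ContinuousAt (fun t : ℝ => P Dd (d + 1) 0 0 t - ((d + 1) * a) * (t * P Dd d 0 1 t)) 0 :=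
    ((P_continuous _ _ _).sub (continuous_const.mul (continuous_id.mul (P_continuous _ _ _)))).continuousAt
  have hev : ∀ᶠ t : ℝ in 𝓝 0, 0 < P Dd (d + 1) 0 0 t - ((d + 1) * a) * (t * P Dd d 0 1 t) :=
    hcont.eventually (eventually_gt_nhds (by simpa using hP0))
  obtain ⟨q, hqev, hq⟩ := ((tendsto_one_div_atTop_nhds_zero_nat.eventually hev).and
    (eventually_gt_atTop 0)).exists
  have hqR : (0 : ℝ) < q := by exact_mod_cast hq
  let D := CohB1.tensorMod (CohB1.tensorPow L q) (CohB1.tensorPow A 1)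
  have hDa : CohB1.IsAmple D := isAmple_twist k hA hL hnef Nat.one_pos hq
  have hD := hDa.1
  have he1 := expand k hL hA.1 hO hsupp.le 1 q hq (d + 1) 0 0 (by omega)
  have he2 := expand k hL hA.1 hO hsupp.le 1 q hq d 0 1 (by omega)
  rw [Nat.cast_one] at he1 he2
  have hw1 : word D L A (d + 1) 0 0 = List.replicate (d + 1) D := by simp [word]
  have hw2 : iC k (word D L A d 0 1) (Coh.structureModule X) =
      iC k (A :: List.replicate d D) (Coh.structureModule X) :=
    iC_perm k (by simpa [word] using (List.perm_append_comm : (List.replicate d D ++ [A]).Perm _)) _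
  rw [hw1] at he1
  rw [hw2] at he2
  have hslope : ((d + 1) * a : ℝ) * (iC k (A :: List.replicate d D) (Coh.structureModule X) : ℝ) <
      (iC k (List.replicate (d + 1) D) (Coh.structureModule X) : ℝ) := by
    rw [he1, he2, pow_succ]
    have := mul_lt_mul_of_pos_left (sub_pos.1 hqev) (mul_pos (pow_pos hqR d) hqR)
    refine lt_of_eq_of_lt ?_ this
    show _ = _
    field_simp
    rfl
  -- the error term
  obtain ⟨N₀, hN₀⟩ := CohBound.exists_section_twist hA hOi hO (S19801.finite_ass hQ).toFinset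
  let Q' := CohB1.tensorMod (cokernel ψ) (CohB1.tensorPow A N₀)
  have hN := AmpleLib.isInvertible_tensorPow hA.1 N₀
  have hQ' : Coh.IsCoh Q' := ProjTwist.isCoh_tensor hN hQ
  have hQ'd : topologicalKrullDim ↥(CohB1.support Q') ≤ (d : WithBot ℕ∞) :=
    (CohDev.dim_mono (HilbPolyX.support_tensorMod_subset _ _)).trans hQd
  have hlD : ∀ M ∈ List.replicate d D, PicF.IsInvertible M := fun M hM => (List.eq_of_mem_replicate hM) ▸ hD
  have hf : iC k (List.replicate d D) Q' = a * iC k (A :: List.replicate d D) (Coh.structureModule X) := by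
    rw [iC_iso k _ (tensComm (cokernel ψ) (CohB1.tensorPow A N₀)),
      iC_twist k hlD hN hQ (by rwa [List.length_replicate]),
      iC_coker k hlD hd.le (by rw [List.length_replicate]) hB hP eB ψ hQ,
      iC_pow k hlD hA.1 hO (dim_support_structure_le (by rw [List.length_replicate]; exact hd.le) _)]
  obtain ⟨m₁, hm₁⟩ := euler_eq_h0 k hDa hO
  obtain ⟨m₂, hm₂⟩ := euler_eq_h0 k hDa hQ'
  have hlim := (tendsto_euler_pow k hD hO hsupp.le).sub (tendsto_euler_pow k hD hQ' hQ'd)
  have hlimpos : 0 < (iC k (List.replicate (d + 1) D) (Coh.structureModule X) : ℝ) / ((d + 1).factorial : ℝ) -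
      (iC k (List.replicate d D) Q' : ℝ) / (d.factorial : ℝ) := by
    have hfac : ((d + 1).factorial : ℝ) = (d + 1) * (d.factorial : ℝ) := by
      rw [Nat.factorial_succ]; push_cast; ring
    rw [hf, hfac, Int.cast_mul, Int.cast_natCast, sub_pos,
      div_lt_div_iff₀ (by positivity) (by positivity)]
    have := mul_lt_mul_of_pos_right hslope (by positivity : (0 : ℝ) < (d.factorial : ℝ))
    linarith
  obtain ⟨m, ⟨hmlim, hmge⟩, hm⟩ := (((hlim.eventually (eventually_gt_nhds hlimpos)).and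
    (eventually_ge_atTop (max m₁ m₂))).and (eventually_gt_atTop 0)).exists
  rw [hm₁ m ((le_max_left _ _).trans hmge), hm₂ m ((le_max_right _ _).trans hmge)] at hmlim
  have hlt : m * h0 k (CohB1.tensorMod Q' (CohB1.tensorPow D m)) <
      h0 k (CohB1.tensorMod (Coh.structureModule X) (CohB1.tensorPow D m)) := by
    have hmR : (0 : ℝ) < (m : ℝ) ^ d := pow_pos (by exact_mod_cast hm) d
    have hmR' : (0 : ℝ) < (m : ℝ) := by exact_mod_cast hm
    rw [sub_pos, pow_succ, div_lt_div_iff₀ hmR (mul_pos hmR hmR')] at hmlim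
    push_cast at hmlim
    rw [mul_comm ((m : ℝ) ^ d) (m : ℝ), ← mul_assoc] at hmlim
    have := lt_of_mul_lt_mul_right hmlim hmR.le
    rw [← Nat.cast_lt (α := ℝ), Nat.cast_mul]
    linarith
  have hDm := AmpleLib.isInvertible_tensorPow hD m
  have hBj := fun j => AmpleLib.isInvertible_tensorPow hB j
  have hsum := h0_iter k hA hB a eB ψ hQ N₀
    (fun N hN => (hN₀ N hN).imp fun σ hσ x hx => hσ ((S19801.finite_ass hQ).mem_toFinset.mpr hx)) hDm
  have hS : Sub (Coh.structureModule X) (CohB1.tensorMod (CohB1.tensorPow B m) (CohB1.tensorPow D m)) :=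
    sub_of_h0_pos k (AmpleLib.isInvertible_tensorMod (hBj m) hDm) (by have := hsum m; simp only [Q'] at hlt; omega)
  -- untwist
  have hPm := AmpleLib.isInvertible_tensorPow hP m
  have eBP : CohB1.tensorMod (CohB1.tensorMod (CohB1.tensorPow B m) (CohB1.tensorPow D m)) (CohB1.tensorPow (CohB1.tensorPow A a) m) ≅
      CohB1.tensorMod (CohB1.tensorPow L (q * m)) (CohB1.tensorPow A m) :=
    tensComm _ _ ≪≫ (tensAssoc _ _ _).symm ≪≫ tensCongr (nonempty_pow_cancel eB m).some (Iso.refl _) ≪≫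
      oneTens _ ≪≫ (nonempty_tensorPow_tensor _ _ m).some ≪≫
      tensCongr (nonempty_pow_mul hL q m).some (powMap (oneTens A) m)
  have h1 : Sub (CohB1.tensorPow A (a * m))
      (CohB1.tensorMod (CohB1.tensorPow L (q * m)) (CohB1.tensorPow A m)) :=
    ((Sub.of_iso ((nonempty_pow_mul hA.1 a m).some.symm ≪≫ (structure_tensor hPm).some.symm)).trans
      (hS.tensor hPm)).iso eBP
  obtain ⟨I, hI, ⟨eI⟩⟩ := PicLaw.exists_inverse (AmpleLib.isInvertible_tensorPow hA.1 m)
  have ecancel : ∀ Z : X.Modules, Nonempty (CohB1.tensorMod (CohB1.tensorMod Z (CohB1.tensorPow A m)) I ≅ Z) :=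
    fun Z => ⟨tensAssoc _ _ _ ≪≫ tensCongr (Iso.refl Z) eI ≪≫ tensOne Z⟩
  have hsplit : CohB1.tensorMod (CohB1.tensorPow A ((a - 1) * m)) (CohB1.tensorPow A m) ≅ CohB1.tensorPow A (a * m) :=
    AmpCrit.SerreVan.powAddIso A _ m ≪≫ eqToIso (by
      rw [← Nat.succ_mul, Nat.succ_eq_add_one, Nat.sub_add_cancel (by omega : 1 ≤ a)])
  obtain ⟨φ, hφ⟩ : Sub (CohB1.tensorPow A ((a - 1) * m)) (CohB1.tensorPow L (q * m)) :=
    ((Sub.of_iso ((ecancel _).some.symm ≪≫ tensCongr hsplit (Iso.refl I))).trans (h1.tensor hI)).iso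
      (ecancel _).some
  exact ⟨q * m, CohB1.tensorPow A ((a - 1) * m), φ, Nat.mul_pos hq hm,
    (AmpleLib.isAmple_tensorPow_iff hA.1 (Nat.mul_pos (by omega) hm)).2 hA, hφ⟩

/-- A nef module on an integral projective variety is big iff `L^n > 0`. -/
theorem big_iff {L H : X.Modules} (hL : PicF.IsInvertible L) (hnef : Nef k X L) (hH : CohB1.IsAmple H)
    {n : ℕ} (hn : topologicalKrullDim X = (n : WithBot ℕ∞)) :
    (∃ (ν : ℕ) (A : X.Modules) (φ : A ⟶ CohB1.tensorPow L ν), 0 < ν ∧ CohB1.IsAmple A ∧ Mono φ) ↔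
      0 < intC k (fun _ : Fin n => L) (Coh.structureModule X) := by
  match n with
  | 0 =>
    have hpos : 0 < intC k (fun _ : Fin 0 => L) (Coh.structureModule X) := by
      rw [iC_ofFn k (fun _ => hL) (ProperFin.isCoh_structureModule X), List.ofFn_zero]
      have h : (0 : ℤ) < iC k (word L L H 0 0 0) (Coh.structureModule X) :=
        Int.cast_pos.1 (pos_ample k hH L hn (dim_support_structure hn))
      simpa [word] using h
    refine iff_of_true ⟨1, L, (oneTens L).inv, Nat.one_pos, ?_, (inferInstanceAs (Mono (oneTens L).symm.hom))⟩ hpos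
    refine isAmple_of_forall_intC_pos k hL fun y e he hy => ?_
    exfalso
    have h := (topologicalKrullDim_subspace_le X (closure ({y} : Set X))).trans hn.le
    rw [FibBound.topDim_closure_singleton k y, hy] at h
    have : e ≤ 0 := by exact_mod_cast h
    omega
  | d + 1 =>
    exact ⟨fun ⟨ν, A, φ, _, hA, hφ⟩ => pos_of_big k hL hnef hA ⟨φ, hφ⟩ hn,
      fun h => big_of_pos k hL hnef hH hn h⟩

end Groth.Agent.NefPos
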