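import Mathlib.Analysis.Real.Sqrt
import Mathlib.Topology.Algebra.Ring.Real
import Mathlib.Topology.Order.IntermediateValue

/-!
# The real-variable part of Kleiman's theorem
-/

set_option autoImplicit false

noncomputable section

namespace Groth.Agent.NefPos

/-- `P D j a b t = ∑ i, C(j,i) t^(j-i) D(a+i, b+j-i)`, recursively. -/
def P (D : ℕ → ℕ → ℝ) : ℕ → ℕ → ℕ → ℝ → ℝ
  | 0, a, b, _ => D a b
  | j + 1, a, b, t => P D j (a + 1) b t + t * P D j a (b + 1) t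

variable {D : ℕ → ℕ → ℝ} {d : ℕ}

theorem P_continuous : ∀ j a b, Continuous (P D j a b)
  | 0, _, _ => continuous_const
  | j + 1, a, b => (P_continuous j (a + 1) b).add (continuous_id.mul (P_continuous j a (b + 1)))

theorem P_zero : ∀ j a b, P D j a b 0 = D (a + j) b
  | 0, _, _ => rfl
  | j + 1, a, b => by
    simp only [P, zero_mul, add_zero, P_zero j]
    ring_nf

theorem P_nonneg_of_b (hD : ∀ a b, a + b = d → 1 ≤ b → 0 ≤ D a b) {t : ℝ} (ht : 0 ≤ t) :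
    ∀ j a b, j + a + b = d → 1 ≤ b → 0 ≤ P D j a b t
  | 0, a, b, h, hb => hD a b (by omega) hb
  | j + 1, a, b, h, hb => add_nonneg (P_nonneg_of_b hD ht j (a + 1) b (by omega) hb)
      (mul_nonneg ht (P_nonneg_of_b hD ht j a (b + 1) (by omega) (by omega)))

theorem P_nonneg (hD : ∀ a b, a + b = d → 0 ≤ D a b) {t : ℝ} (ht : 0 ≤ t) :
    ∀ j a b, j + a + b = d → 0 ≤ P D j a b t
  | 0, a, b, h => hD a b (by omega)
  | j + 1, a, b, h => add_nonneg (P_nonneg hD ht j (a + 1) b (by omega))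
      (mul_nonneg ht (P_nonneg hD ht j a (b + 1) (by omega)))

theorem P_lower_of_b (hD : ∀ a b, a + b = d → 1 ≤ b → 0 ≤ D a b) {t : ℝ} (ht : 0 ≤ t) :
    ∀ j a b, j + a + b = d → 1 ≤ b → t ^ j * D a (b + j) ≤ P D j a b t
  | 0, a, b, _, _ => by simp [P]
  | j + 1, a, b, h, hb => by
    have h1 := mul_le_mul_of_nonneg_left (P_lower_of_b hD ht j a (b + 1) (by omega) (by omega)) ht
    have h2 := P_nonneg_of_b hD ht j (a + 1) b (by omega) hb
    simp only [P]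
    rw [pow_succ, show b + (j + 1) = b + 1 + j by omega]
    linarith

theorem P_top (hD : ∀ a b, a + b = d → 1 ≤ b → 0 ≤ D a b) {t : ℝ} (ht : 0 ≤ t) :
    ∀ j a, j + a = d → D (a + j) 0 ≤ P D j a 0 t
  | 0, a, _ => le_rfl
  | j + 1, a, h => by
    have h1 := P_top hD ht j (a + 1) (by omega)
    have h2 := mul_nonneg ht (P_nonneg_of_b hD ht j a 1 (by omega) le_rfl)
    simp only [P]
    rw [show a + (j + 1) = a + 1 + j by omega]
    linarith

theorem P_pos (hD : ∀ a b, a + b = d → 0 ≤ D a b) (hd : 1 ≤ d) (h0 : 0 < D 0 d) {t : ℝ} (ht : 0 < t) :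
    0 < P D d 0 0 t := by
  obtain ⟨e, rfl⟩ : ∃ e, d = e + 1 := ⟨d - 1, by omega⟩
  have h1 := P_nonneg hD ht.le e 1 0 (by omega)
  have h2 := P_lower_of_b (fun a b h _ => hD a b h) ht.le e 0 1 (by omega) le_rfl
  have h3 : 0 < t * (t ^ e * D 0 (1 + e)) := by
    rw [show 1 + e = e + 1 by omega]; positivity
  simp only [P]
  nlinarith [mul_le_mul_of_nonneg_left h2 ht.le]

/-- The key real-variable argument. -/
theorem top_nonneg (hD : ∀ a b, a + b = d → 1 ≤ b → 0 ≤ D a b) (hd : 1 ≤ d) (h0 : 0 < D 0 d)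
    (hR : ∀ p q : ℕ, 0 < p → 0 < q → 0 < P D d 0 0 ((p : ℝ) / q) → 0 ≤ P D (d - 1) 1 0 ((p : ℝ) / q)) :
    0 ≤ D d 0 := by
  obtain ⟨e, rfl⟩ : ∃ e, d = e + 1 := ⟨d - 1, by omega⟩
  simp only [Nat.add_sub_cancel] at hR
  have hS : ∀ t : ℝ, 0 ≤ t → t ^ e * D 0 (e + 1) ≤ P D e 0 1 t := fun t ht => by
    rw [Nat.add_comm e 1]
    exact P_lower_of_b hD ht e 0 1 (by omega) le_rfl
  by_contra! hneg
  have hc := P_continuous (D := D) (e + 1) 0 0
  have hz : P D (e + 1) 0 0 0 < 0 := by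
    rw [P_zero, Nat.zero_add]; exact hneg
  obtain ⟨δ, hδ, hball⟩ := Metric.isOpen_iff.1 (isOpen_lt hc continuous_const) 0 hz
  obtain ⟨t1, ht1, ht1n⟩ : ∃ t1 : ℝ, 0 < t1 ∧ P D (e + 1) 0 0 t1 < 0 :=
    ⟨δ / 2, by linarith, hball (by rw [Metric.mem_ball, Real.dist_eq, sub_zero, abs_of_pos] <;> linarith)⟩
  set ε := t1 * (t1 ^ e * D 0 (e + 1)) with hε
  have hεpos : 0 < ε := by positivity
  let T := max (max t1 1) ((ε - D (e + 1) 0) / D 0 (e + 1))
  have hT1 : 1 ≤ T := le_trans (le_max_right _ _) (le_max_left _ _)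
  have hT0 : t1 ≤ T := le_trans (le_max_left _ _) (le_max_left _ _)
  have hTε : ε ≤ P D (e + 1) 0 0 T := by
    have h1 := P_top hD (by linarith : (0 : ℝ) ≤ T) e 1 (by omega)
    rw [Nat.add_comm 1 e] at h1
    have h2 := hS T (by linarith)
    have h3 : ε - D (e + 1) 0 ≤ T * D 0 (e + 1) := (div_le_iff₀ h0).1 (le_max_right _ _)
    have h4 : T * D 0 (e + 1) ≤ T * (T ^ e * D 0 (e + 1)) := by
      refine mul_le_mul_of_nonneg_left ?_ (by linarith)
      exact le_mul_of_one_le_left h0.le (one_le_pow₀ hT1)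
    have h5 := mul_le_mul_of_nonneg_left h2 (by linarith : (0 : ℝ) ≤ T)
    simp only [P]
    linarith
  obtain ⟨t0, ⟨ht0, -⟩, htv⟩ := intermediate_value_Icc hT0 hc.continuousOn
    (show ε / 2 ∈ Set.Icc (P D (e + 1) 0 0 t1) (P D (e + 1) 0 0 T) from ⟨by linarith, by linarith⟩)
  obtain ⟨η, hη, hηball⟩ := Metric.isOpen_iff.1
    ((isOpen_lt continuous_const hc).inter (isOpen_lt hc continuous_const)) t0
    (show t0 ∈ {x | (0 : ℝ) < P D (e + 1) 0 0 x} ∩ {x | P D (e + 1) 0 0 x < ε} from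
      ⟨by simp only [Set.mem_ofPred_eq, htv]; linarith, by simp only [Set.mem_ofPred_eq, htv]; linarith⟩)
  obtain ⟨s, hs1, hs2⟩ := exists_rat_btwn (show t0 < t0 + η by linarith)
  have hs : (s : ℝ) ∈ Metric.ball t0 η := by
    rw [Metric.mem_ball, Real.dist_eq, abs_of_pos] <;> linarith
  obtain ⟨hP0, hPε⟩ := hηball hs
  have hspos : (0 : ℝ) < (s : ℝ) := by linarith
  have hs' : 0 < s := by exact_mod_cast hspos
  have hnum : 0 < s.num := Rat.num_pos.2 hs'
  have hcast : (s : ℝ) = ((s.num.toNat : ℕ) : ℝ) / (s.den : ℝ) := by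
    rw [Rat.cast_def]
    congr 1
    exact_mod_cast (Int.toNat_of_nonneg hnum.le).symm
  have hR' : 0 ≤ P D e 1 0 (s : ℝ) := by
    rw [hcast]
    exact hR _ _ (by omega) s.den_pos (by rw [← hcast]; exact hP0)
  have h2 := mul_le_mul_of_nonneg_left (hS s hspos.le) hspos.le
  have h6 : ε ≤ (s : ℝ) * ((s : ℝ) ^ e * D 0 (e + 1)) := by
    have hle : t1 ≤ (s : ℝ) := by linarith
    exact mul_le_mul hle (mul_le_mul_of_nonneg_right (pow_le_pow_left₀ ht1.le hle e) h0.le)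
      (by positivity) hspos.le
  simp only [P, Set.mem_ofPred_eq] at hPε
  linarith

end Groth.Agent.NefPos
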