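import Groth.Agent.NefPos.Big

/-!
# Bigness and the growth of sections
-/

set_option autoImplicit false
set_option linter.style.haveILetI false

universe u

open CategoryTheory CategoryTheory.Limits AlgebraicGeometry TopologicalSpace Filter
open scoped Topology

noncomputable section

namespace Groth.Agent.NefPos

open Groth.Agent.ProjTwist Groth.Agent.IntProd70 Groth.Agent.BigVol Groth.Agent.BigVol.NumEquiv

variable (k : Type u) [Field k] {X : Scheme.{u}} [X.Over (Spec (CommRingCat.of k))]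
  [IsProper (X ↘ Spec (CommRingCat.of k))] [IsIntegral X]

/-- Sections of powers of an ample module grow maximally. -/
theorem ample_growth {A : X.Modules} (hA : CohB1.IsAmple A) {n : ℕ}
    (hn : topologicalKrullDim X = (n : WithBot ℕ∞)) :
    ∃ c : ℝ, 0 < c ∧ ∃ m₀ : ℕ, ∀ m, m₀ ≤ m → c * (m : ℝ) ^ n ≤ (h0 k (CohB1.tensorPow A m) : ℝ) := by
  have hO := ProperFin.isCoh_structureModule X
  have hpos : (0 : ℝ) < (iC k (List.replicate n A) (Coh.structureModule X) : ℝ) / (n.factorial : ℝ) := by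
    refine div_pos ?_ (by positivity)
    simpa [Dfun, word] using pos_ample k hA A hn (dim_support_structure hn)
  obtain ⟨m₁, hm₁⟩ := euler_eq_h0 k hA hO
  obtain ⟨m₂, hm₂⟩ := eventually_atTop.1 ((tendsto_euler_pow k hA.1 hO (dim_support_structure hn).le).eventually
    (eventually_gt_nhds (half_lt_self hpos)))
  refine ⟨_, half_pos hpos, max (max m₁ m₂) 1, fun m hm => ?_⟩
  have hm0 : (0 : ℝ) < m := by exact_mod_cast (show 0 < m by omega)
  have h := hm₂ m (by omega)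
  rw [hm₁ m (by omega), lt_div_iff₀ (pow_pos hm0 n)] at h
  have e : h0 k (CohB1.tensorMod (Coh.structureModule X) (CohB1.tensorPow A m)) = h0 k (CohB1.tensorPow A m) :=
    Pn.finrank_hh_iso (oneTens _) 0
  rw [e] at h
  exact_mod_cast h.le

/-- An ample submodule of a power forces maximal growth. -/
theorem growth_of_sub {A L : X.Modules} (hA : CohB1.IsAmple A) (hL : PicF.IsInvertible L) {ν : ℕ} (hν : 0 < ν)
    (h : Sub A (CohB1.tensorPow L ν)) {n : ℕ} (hn : topologicalKrullDim X = (n : WithBot ℕ∞)) :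
    ∃ c : ℝ, 0 < c ∧ ∃ m₁ : ℕ, ∀ m, m₁ ≤ m → c * (m : ℝ) ^ n ≤ (h0 k (CohB1.tensorPow L m) : ℝ) := by
  haveI := EulerChar.isNoetherian k (X := X)
  have hLr := fun r => AmpleLib.isInvertible_tensorPow hL r
  have hAr := fun r => AmpleLib.isInvertible_tensorPow hA.1 r
  choose N hN using fun r : ℕ => AmpleLib.eventually_globallyGenerated hA (BigVol.isCoh_of_isInvertible (hLr r)).1
    (BigVol.isCoh_of_isInvertible (hLr r)).2
  obtain ⟨c, hc, m₀, hm₀⟩ := ample_growth k hA hn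
  let T := (Finset.range ν).sup N
  refine ⟨c / (4 * (ν : ℝ)) ^ n, by positivity, ν * (2 * (T + m₀) + 1), fun m hm => ?_⟩
  obtain ⟨μ, r, hr, rfl⟩ : ∃ μ r, r < ν ∧ m = ν * μ + r :=
    ⟨m / ν, m % ν, Nat.mod_lt _ hν, (Nat.div_add_mod m ν).symm⟩
  have hμ : 2 * (T + m₀) + 1 ≤ μ := by
    by_contra! hlt
    have h1 := Nat.mul_le_mul_left ν (Nat.succ_le_iff.2 hlt)
    rw [Nat.mul_succ] at h1
    omega
  obtain ⟨s, rfl⟩ : ∃ s, μ = s + T := ⟨μ - T, by omega⟩
  have hrT : N r ≤ T := Finset.le_sup (Finset.mem_range.2 hr)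
  have h1 := sub_of_globallyGenerated (AmpleLib.isInvertible_tensorMod (hLr r) (hAr T)) (hN r T hrT)
  have h2 : Sub (CohB1.tensorPow A s) (CohB1.tensorMod (CohB1.tensorPow A (s + T)) (CohB1.tensorPow L r)) :=
    ((Sub.of_iso (structure_tensor (hAr s)).some.symm).trans (h1.tensor (hAr s))).iso
      (tensAssoc _ _ _ ≪≫ tensComm _ _ ≪≫ tensCongr (tensComm _ _ ≪≫ AmpCrit.SerreVan.powAddIso A s T) (Iso.refl _))
  have h3 : Sub (CohB1.tensorPow A s) (CohB1.tensorPow L (ν * (s + T) + r)) :=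
    h2.trans ((((sub_tensorPow hA.1 (hLr ν) h (s + T)).iso (nonempty_pow_mul hL ν (s + T)).some).tensor (hLr r)).iso
      (AmpCrit.SerreVan.powAddIso L _ r))
  have h4 := h0_le_of_sub k (BigVol.isCoh_of_isInvertible (hLr _)) h3
  refine le_trans ?_ (le_trans (hm₀ s (by omega)) (Nat.cast_le.2 h4))
  have hle : ν * (s + T) + r ≤ 4 * ν * s := by
    have h5 : ν * (s + T + 1) ≤ ν * (4 * s) := Nat.mul_le_mul_left ν (by omega)
    rw [Nat.mul_add, Nat.mul_one, ← Nat.mul_assoc, Nat.mul_comm ν 4] at h5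
    omega
  rw [div_mul_eq_mul_div, div_le_iff₀ (by positivity), mul_assoc, ← mul_pow]
  refine mul_le_mul_of_nonneg_left (pow_le_pow_left₀ (Nat.cast_nonneg _) ?_ n) hc.le
  have h6 : ((ν * (s + T) + r : ℕ) : ℝ) ≤ ((4 * ν * s : ℕ) : ℝ) := Nat.cast_le.2 hle
  push_cast at h6 ⊢
  linarith

/-- Kodaira: maximal growth gives an ample submodule. -/
theorem big_of_hbig {A L : X.Modules} (hA : CohB1.IsAmple A) (hL : PicF.IsInvertible L) {n : ℕ}
    (hn : topologicalKrullDim X ≤ (n : WithBot ℕ∞))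
    (hbig : ∀ C : ℕ, ∃ m : ℕ, 0 < m ∧ C * m ^ n < m * h0 k (CohB1.tensorPow L m)) :
    ∃ (ν : ℕ) (A' : X.Modules) (φ : A' ⟶ CohB1.tensorPow L ν), 0 < ν ∧ CohB1.IsAmple A' ∧ Mono φ := by
  haveI := EulerChar.isNoetherian k (X := X)
  haveI := EulerChar.compactSpace k (X := X)
  have hO := ProperFin.isCoh_structureModule X
  obtain ⟨n₀, hn₀⟩ := AmpleLib.eventually_globallyGenerated hA hO.1 hO.2
  have hP := AmpleLib.isInvertible_tensorPow hA.1 (n₀ + 1)
  have hs : Sub (Coh.structureModule X) (CohB1.tensorPow A (n₀ + 1)) :=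
    (sub_of_globallyGenerated (AmpleLib.isInvertible_tensorMod (LFFrame.isInvertible_structureModule X) hP)
      (hn₀ _ (Nat.le_succ _))).iso (oneTens _)
  obtain ⟨m, hm, φ, hφ⟩ := exists_sub_pow k hA hL hn hP hs hbig
  exact ⟨m, _, φ, hm, (AmpleLib.isAmple_tensorPow_iff hA.1 (Nat.succ_pos n₀)).2 hA, hφ⟩

end Groth.Agent.NefPos
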