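import Groth.Agent.NefPos.Growth
import Groth.Agent.EulerChar.Restrict

/-!
# Sections of powers of nef modules of small numerical dimension
-/

set_option autoImplicit false
set_option linter.style.haveILetI false

universe u

open CategoryTheory CategoryTheory.Limits AlgebraicGeometry TopologicalSpace Filter
open scoped Topology

noncomputable section

namespace Groth.Agent.NefPos

open Groth.Agent.ProjTwist Groth.Agent.IntProd70 Groth.Agent.BigVol Groth.Agent.BigVol.NumEquiv

variable (k : Type u) [Field k] {X : Scheme.{u}} [X.Over (Spec (CommRingCat.of k))]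
  [IsProper (X ↘ Spec (CommRingCat.of k))] {L : X.Modules} (hL : PicF.IsInvertible L) (m : ℕ)

/-- `h⁰(G ⊗ L^ν) = o(ν^m)`. -/
def Small (L : X.Modules) (m : ℕ) (G : X.Modules) : Prop :=
  ∀ ε : ℝ, 0 < ε → ∀ᶠ ν : ℕ in atTop, (h0 k (CohB1.tensorMod G (CohB1.tensorPow L ν)) : ℝ) ≤ ε * (ν : ℝ) ^ m

include hL

omit [IsProper (X ↘ Spec (CommRingCat.of k))] in
theorem small_of_le {G : X.Modules} {C e : ℕ} (he : e < m)
    (h : ∀ ν, h0 k (CohB1.tensorMod G (CohB1.tensorPow L ν)) ≤ C * (ν + 1) ^ e) : Small k L m G := by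
  intro ε hε
  filter_upwards [eventually_ge_atTop (⌈(C * 2 ^ e : ℝ) / ε⌉₊ + 1)] with ν hν
  have hν1 : 1 ≤ ν := by omega
  have hC : (C * 2 ^ e : ℝ) ≤ ν * ε := by
    rw [← div_le_iff₀ hε]
    exact (Nat.le_ceil _).trans (by exact_mod_cast (show ⌈(C * 2 ^ e : ℝ) / ε⌉₊ ≤ ν by omega))
  calc (h0 k (CohB1.tensorMod G (CohB1.tensorPow L ν)) : ℝ) ≤ (C : ℝ) * ((ν : ℝ) + 1) ^ e := by exact_mod_cast h ν
    _ ≤ (C : ℝ) * (2 * (ν : ℝ)) ^ e := by
      refine mul_le_mul_of_nonneg_left (pow_le_pow_left₀ (by positivity) ?_ e) (Nat.cast_nonneg _)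
      have : (1 : ℝ) ≤ ν := by exact_mod_cast hν1
      linarith
    _ = C * 2 ^ e * (ν : ℝ) ^ e := by rw [mul_pow, mul_assoc]
    _ ≤ ν * ε * (ν : ℝ) ^ e := mul_le_mul_of_nonneg_right hC (by positivity)
    _ = ε * (ν : ℝ) ^ (e + 1) := by rw [pow_succ]; ring
    _ ≤ ε * (ν : ℝ) ^ m := mul_le_mul_of_nonneg_left (pow_le_pow_right₀ (by exact_mod_cast hν1) he) hε.le

theorem small_of_sub {A G : X.Modules} (hG : Coh.IsCoh G) (h : Sub A G) (hs : Small k L m G) : Small k L m A := by
  haveI := EulerChar.isNoetherian k (X := X)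
  intro ε hε
  filter_upwards [hs ε hε] with ν hν
  exact le_trans (Nat.cast_le.2 (h0_le_of_sub k (isCoh_tensor (AmpleLib.isInvertible_tensorPow hL ν) hG)
    (h.tensor (AmpleLib.isInvertible_tensorPow hL ν)))) hν

theorem small_ext {S : ShortComplex X.Modules} (hS : S.ShortExact) (h₁ : Coh.IsCoh S.X₁) (h₂ : Coh.IsCoh S.X₂)
    (h₃ : Coh.IsCoh S.X₃) (p₁ : Small k L m S.X₁) (p₃ : Small k L m S.X₃) : Small k L m S.X₂ := by
  haveI := EulerChar.isNoetherian k (X := X)
  intro ε hε
  filter_upwards [p₁ _ (half_pos hε), p₃ _ (half_pos hε)] with ν a b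
  have h : ((CohBound.hh k S.X₂ L ν 0 : ℕ) : ℝ) ≤ (CohBound.hh k S.X₁ L ν 0 : ℕ) + (CohBound.hh k S.X₃ L ν 0 : ℕ) := by
    exact_mod_cast (CohBound.hh_triangle k hS h₁ h₂ h₃ hL ν 0).1
  exact h.trans ((add_le_add a b).trans (le_of_eq (by ring)))

theorem small_isZero {G : X.Modules} (h : topologicalKrullDim ↥(CohB1.support G) < ((0 : ℕ) : WithBot ℕ∞)) :
    Small k L m G := by
  haveI := EulerChar.isNoetherian k (X := X)
  intro ε hε
  filter_upwards with ν
  rw [show h0 k (CohB1.tensorMod G (CohB1.tensorPow L ν)) = 0 from CohBound.hh_eq_zero k h L ν 0, Nat.cast_zero]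
  positivity

/-- The numbers vanish in all larger dimensions. -/
theorem iC_eq_zero (hzero : ∀ ξ : X, topologicalKrullDim ↥(closure ({ξ} : Set X)) = (m : WithBot ℕ∞) →
      iC k (List.replicate m L) (Cyc.closureStructureSheaf ξ) = 0) :
    ∀ d, m ≤ d → ∀ G : X.Modules, Coh.IsCoh G → topologicalKrullDim ↥(CohB1.support G) ≤ (d : WithBot ℕ∞) →
      iC k (List.replicate d L) G = 0 := by
  haveI := EulerChar.isNoetherian k (X := X)
  intro d hd
  induction d, hd using Nat.le_induction with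
  | base =>
    intro G hG hd
    have hT := CohDev.isClosed_support hG
    have hfin := finite_top hT hd
    rw [← List.ofFn_const, ← iC_ofFn k (fun _ => hL) hG, intC,
      intE_components k (fun _ => hL) hT hd hfin.toFinset (fun ξ => hfin.mem_toFinset) hG subset_rfl,
      Finset.mul_sum]
    refine Finset.sum_eq_zero fun ξ hξ => ?_
    have h := hzero ξ (hfin.mem_toFinset.1 hξ).2
    rw [← List.ofFn_const, ← iC_ofFn k (fun _ => hL) (CohDev.isCoh_oz ξ), intC] at h
    rw [mul_left_comm, h, mul_zero]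
  | succ d hd ih =>
    intro G hG hGd
    have hl : ∀ A ∈ List.replicate d L, PicF.IsInvertible A := fun A hA => (List.eq_of_mem_replicate hA) ▸ hL
    have hN : ∀ i : Fin (List.replicate d L).length, PicF.IsInvertible ((List.replicate d L).get i) :=
      fun i => hl _ (List.get_mem _ i)
    have hLG := Snapper.isCoh_tensorMod k hL hG
    rw [List.replicate_succ, iC_cons, iC_get k hl hLG, iC_get k hl hG, intC, intC, ← mul_sub,
      ← Snapper.intK_kcl k hN hLG, ← Snapper.intK_kcl k hN hG, ← map_sub]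
    have hc := Snapper.kcl_tens_sub_small k hL hG hGd
    revert hc
    generalize CohDev.kcl (CohB1.tensorMod L G) - CohDev.kcl G = c
    intro hc
    induction hc using AddSubgroup.closure_induction with
    | mem x hx =>
      obtain ⟨G', hG', hd', rfl⟩ := hx
      rw [Snapper.intK_kcl k hN hG', ← intC, ← iC_get k hl hG']
      exact ih G' hG' (Snapper.le_of_lt_succ hd')
    | zero => rw [map_zero, mul_zero]
    | add x y _ _ hx hy => rw [map_add, mul_add, hx, hy, add_zero]
    | neg x _ hx => rw [map_neg, mul_neg, hx, neg_zero]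

/-- The step on the closure of a point. -/
theorem small_point {H : X.Modules} (hH : CohB1.IsAmple H) (hnef : Nef k X L)
    (hzero : ∀ ξ : X, topologicalKrullDim ↥(closure ({ξ} : Set X)) = (m : WithBot ℕ∞) →
      iC k (List.replicate m L) (Cyc.closureStructureSheaf ξ) = 0)
    (ξ : X) {e : ℕ} (hξ : topologicalKrullDim ↥(closure ({ξ} : Set X)) = (e : WithBot ℕ∞))
    (IH : ∀ G : X.Modules, Coh.IsCoh G → topologicalKrullDim ↥(CohB1.support G) < (e : WithBot ℕ∞) → Small k L m G) :
    Small k L m (Cyc.closureStructureSheaf ξ) := by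
  haveI := EulerChar.isNoetherian k (X := X)
  haveI := EulerChar.compactSpace k (X := X)
  have hF : Coh.IsCoh (Cyc.closureStructureSheaf ξ) := CohDev.isCoh_oz ξ
  have hFd : topologicalKrullDim ↥(CohB1.support (Cyc.closureStructureSheaf ξ)) ≤ (e : WithBot ℕ∞) :=
    (CohDev.dim_mono (CohDev.support_oz_subset ξ)).trans hξ.le
  by_cases hem : e < m
  · obtain ⟨C, hC⟩ := CohBound.exists_hh_le k hH hL hF hFd 0
    exact small_of_le k hL m hem hC
  have hL0 := iC_eq_zero k hL m hzero e (not_lt.1 hem) _ hF hFd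
  obtain ⟨hdim, hint, heq⟩ := piece_eq k ξ hξ (l := List.replicate e L)
    (fun A hA => (List.eq_of_mem_replicate hA) ▸ hL) (List.length_replicate ..)
  rw [hL0, List.map_replicate] at heq
  let D := IntMult.ptIdeal ξ
  letI : D.subscheme.Over (Spec (CommRingCat.of k)) := ⟨D.subschemeι ≫ (X ↘ Spec (CommRingCat.of k))⟩
  haveI : IsProper (D.subscheme ↘ Spec (CommRingCat.of k)) :=
    inferInstanceAs (IsProper (D.subschemeι ≫ (X ↘ Spec (CommRingCat.of k))))
  haveI := hint
  let p := Scheme.Modules.pullback D.subschemeι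
  have hL' : PicF.IsInvertible (p.obj L) := PicCl.isInvertible_pullback _ hL
  have hnb : ∀ (ν : ℕ) (A : D.subscheme.Modules), 0 < ν → CohB1.IsAmple A →
      ¬ Sub A (CohB1.tensorPow (p.obj L) ν) := by
    intro ν A hν hA ⟨φ, hφ⟩
    have h := (big_iff k hL' (nef_pullback k D.subschemeι rfl hL hnef) hA hdim).1 ⟨ν, A, φ, hν, hA, hφ⟩
    rw [iC_ofFn k (fun _ => hL') (ProperFin.isCoh_structureModule _), List.ofFn_const] at h
    exact h.ne heq
  obtain ⟨N₀, hN₀⟩ := CohBound.exists_section_twist hH (LFFrame.isInvertible_structureModule X)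
    (ProperFin.isCoh_structureModule X) (S19801.finite_ass hF).toFinset
  obtain ⟨σ, hσ⟩ := hN₀ (N₀ + 1) (Nat.le_succ _)
  let R := CohB1.tensorMod (Coh.structureModule X) (CohB1.tensorPow H (N₀ + 1))
  have hR : PicF.IsInvertible R := AmpleLib.isInvertible_tensorMod (LFFrame.isInvertible_structureModule X)
    (AmpleLib.isInvertible_tensorPow hH.1 _)
  have hRa : CohB1.IsAmple R := AmpleLib.isAmple_of_iso (oneTens _).symm
    ((AmpleLib.isAmple_tensorPow_iff hH.1 (Nat.succ_pos N₀)).2 hH)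
  obtain ⟨hmono, hQ, hdrop⟩ := CohBound.mulSec_drop hR hF (Props.GenLocus.homOfSec σ) (by
    rw [AmpleLib.genLocus_homOfSec]
    exact fun x hx => hσ ((S19801.finite_ass hF).mem_toFinset.mpr hx))
  have hQd := hdrop e (lt_of_le_of_lt hFd (by exact_mod_cast Nat.lt_succ_self e))
  obtain ⟨I, hI, ⟨eI⟩⟩ := PicLaw.exists_inverse hR
  let Q := cokernel (HilbPolyX.mulSec (Cyc.closureStructureSheaf ξ) (Props.GenLocus.homOfSec σ))
  have hQ' : Small k L m (CohB1.tensorMod Q I) := IH _ (isCoh_tensor hI hQ)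
    (lt_of_le_of_lt (CohDev.dim_mono (HilbPolyX.support_tensorMod_subset _ _)) hQd)
  have hS : (ShortComplex.mk _ _ (cokernel.condition
      (HilbPolyX.mulSec (Cyc.closureStructureSheaf ξ) (Props.GenLocus.homOfSec σ)))).ShortExact :=
    ShortComplex.ShortExact.mk' (ShortComplex.exact_cokernel _) hmono (inferInstanceAs (Epi (cokernel.π _)))
  intro ε hε
  filter_upwards [hQ' ε hε, eventually_gt_atTop 0] with ν hν hν0
  refine le_trans (Nat.cast_le.2 ?_) hν
  have hLν := AmpleLib.isInvertible_tensorPow hL ν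
  let M := CohB1.tensorMod I (CohB1.tensorPow L ν)
  have hM : PicF.IsInvertible M := AmpleLib.isInvertible_tensorMod hI hLν
  have t : h0 k (CohB1.tensorMod (CohB1.tensorMod (Cyc.closureStructureSheaf ξ) R) M) ≤
      h0 k (CohB1.tensorMod (Cyc.closureStructureSheaf ξ) M) + h0 k (CohB1.tensorMod Q M) :=
    (CohBound.h_triangle k (shortExact_tensor hM hS) (isCoh_tensor hM hF)
      (isCoh_tensor hM (isCoh_tensor hR hF)) (isCoh_tensor hM hQ) 0).1
  have e1 : h0 k (CohB1.tensorMod (CohB1.tensorMod (Cyc.closureStructureSheaf ξ) R) M) =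
      h0 k (CohB1.tensorMod (Cyc.closureStructureSheaf ξ) (CohB1.tensorPow L ν)) :=
    Pn.finrank_hh_iso (tensAssoc _ _ _ ≪≫ tensCongr (Iso.refl _)
      ((tensAssoc _ _ _).symm ≪≫ tensCongr eI (Iso.refl _) ≪≫ oneTens _)) 0
  have e2 : h0 k (CohB1.tensorMod Q M) = h0 k (CohB1.tensorMod (CohB1.tensorMod Q I) (CohB1.tensorPow L ν)) :=
    Pn.finrank_hh_iso (tensAssoc _ _ _).symm 0
  have hM' : PicF.IsInvertible (p.obj M) := PicCl.isInvertible_pullback _ hM
  have e3 : h0 k (CohB1.tensorMod (Cyc.closureStructureSheaf ξ) M) = h0 k (p.obj M) :=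
    (Pn.finrank_hh_iso (tensComm _ M ≪≫ EulerChar.tensQuotIso D.subschemeι M) 0).trans
      (EulerChar.nonempty_pushEquiv D.subschemeι rfl _ (isQCoh_of_isInvertible hM') 0).some.finrank_eq
  have hz : h0 k (p.obj M) = 0 := by
    by_contra hne
    have hs := (sub_of_h0_pos k hM' (Nat.pos_of_ne_zero hne)).tensor (PicCl.isInvertible_pullback D.subschemeι hR)
    refine hnb ν (p.obj R) hν0 (Wt.AmpleThick.isAmple_pullback D.subschemeι hRa) ?_
    exact ((Sub.of_iso (oneTens _).symm).trans hs).iso ((PicLaw.pullback_tensor D.subschemeι hM hR).some.symm ≪≫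
      p.mapIso (tensAssoc _ _ _ ≪≫ tensCongr (Iso.refl _) (tensComm _ _) ≪≫ (tensAssoc _ _ _).symm ≪≫
        tensCongr (tensComm I R ≪≫ eI) (Iso.refl _) ≪≫ oneTens _) ≪≫ AmpCrit.TwistDev.pullPowIso _ L ν)
  rw [e1, e3, hz, zero_add, e2] at t
  exact t

/-- If `L^m` kills all `m`-dimensional subvarieties then `h⁰(G ⊗ L^ν) = o(ν^m)`. -/
theorem small_of_numDim_lt {H : X.Modules} (hH : CohB1.IsAmple H) (hnef : Nef k X L)
    (hzero : ∀ ξ : X, topologicalKrullDim ↥(closure ({ξ} : Set X)) = (m : WithBot ℕ∞) →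
      iC k (List.replicate m L) (Cyc.closureStructureSheaf ξ) = 0) :
    ∀ (e : ℕ) (G : X.Modules), Coh.IsCoh G → topologicalKrullDim ↥(CohB1.support G) < (e : WithBot ℕ∞) →
      Small k L m G := by
  haveI := EulerChar.isNoetherian k (X := X)
  intro e
  induction e with
  | zero => exact fun G _ h => small_isZero k hL m h
  | succ e ih =>
    intro G hG hd
    refine CohDev.devissage
      (fun G => topologicalKrullDim ↥(CohB1.support G) < ((e + 1 : ℕ) : WithBot ℕ∞) → Small k L m G)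
      (fun M hM _ => small_isZero k hL m ?_) (fun S hS h₁ h₂ h₃ p₁ p₃ hd => ?_) (fun M hM hz => ?_) hG hd
    · rw [support_eq_empty_of_isZero hM]
      haveI : IsEmpty (IrreducibleCloseds ↥(∅ : Set X)) :=
        ⟨fun s => s.2.nonempty.elim fun z _ => z.2⟩
      show Order.krullDim _ < _
      rw [Order.krullDim_eq_bot]
      exact WithBot.bot_lt_coe _
    · haveI := hS.mono_f
      haveI := hS.epi_g
      exact small_ext k hL m hS h₁ h₂ h₃
        (p₁ (lt_of_le_of_lt (CohDev.dim_mono (CohDev.support_subset_of_mono S.f)) hd))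
        (p₃ (lt_of_le_of_lt (CohDev.dim_mono (CohDev.support_subset_of_epi S.g)) hd))
    · obtain ⟨x, J, f, hf, hJ⟩ := CohDev.exists_isPiece hM hz
      obtain ⟨g, hg, hJc, hxJ⟩ := hJ
      refine ⟨J, f, hf, hJc, fun h => hxJ (AddCommGrpCat.subsingleton_of_isZero
        ((Scheme.Modules.toPresheaf X ⋙ TopCat.Presheaf.stalkFunctor AddCommGrpCat.{u} x).map_isZero h)),
        fun hd => small_of_sub k hL m (CohDev.isCoh_oz x) ⟨g, hg⟩ ?_⟩
      have hcl : topologicalKrullDim ↥(closure ({x} : Set X)) < ((e + 1 : ℕ) : WithBot ℕ∞) :=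
        lt_of_le_of_lt (CohDev.dim_mono (closure_minimal (Set.singleton_subset_iff.2 hxJ)
          (CohDev.isClosed_support hJc))) hd
      have hx := FibBound.topDim_closure_singleton k x
      have hle : VarDim.dimPt k X x ≤ e := by
        rw [hx] at hcl
        have : VarDim.dimPt k X x < e + 1 := by exact_mod_cast hcl
        omega
      rcases hle.eq_or_lt with h | h
      · exact small_point k hL m hH hnef hzero x (h ▸ hx) ih
      · refine ih _ (CohDev.isCoh_oz x) (lt_of_le_of_lt (CohDev.dim_mono (CohDev.support_oz_subset x)) ?_)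
        rw [hx]
        exact_mod_cast h

end Groth.Agent.NefPos
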