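import Groth.Agent.NefPos.NonBig
import Groth.Agent.AbExt.Collapse
import Groth.Agent.DimOneAmple.AmpleOfGG
import Groth.Agent.Props.GenProd

/-!
# The rank of the restriction of sections of a globally generated module to a subvariety

If `M` is globally generated and `(M^m · Z) ≠ 0` then the sections of `M^ν` span a space of dimension at
least `C(ν + m, m)` on `Z`; in particular a globally generated module is nef and `h⁰(M^ν)` grows as
`ν^m` as soon as `M^m` is not numerically trivial.
-/

set_option autoImplicit false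
set_option linter.style.haveILetI false

universe u

open CategoryTheory CategoryTheory.Limits AlgebraicGeometry TopologicalSpace

noncomputable section

namespace Groth.Agent.NefPos.SecRank

open Groth.Agent.ProjTwist Groth.Agent.IntProd70
open Groth.Agent.QCoh Groth.Agent.Props.GenLocus Groth.Agent.Props.GenTensor Groth.Agent.Props.GenProd

variable (k : Type u) [Field k] {X : Scheme.{u}} [X.Over (Spec (CommRingCat.of k))]
  {M : X.Modules}

/-- The scalars in the residue field. -/
def scal (ξ : X) : k →+* X.residueField ξ :=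
  (X.Γevaluation ξ).hom.comp (show k →+* Γ(X, ⊤) from Coh.toGlobal (X ↘ Spec (CommRingCat.of k)))

instance (ξ : X) : Algebra k (X.residueField ξ) := (scal k ξ).toAlgebra

variable {ξ : X} {W : X.Opens} {e : Γ(M, W)}

/-- The value at `ξ` of a section of `M^ν` in a trivialisation. -/
def val (he : IsGen M W e) (hξ : ξ ∈ W) (ν : ℕ) :
    Coh.HH X (CohB1.tensorPow M ν) 0 →ₗ[k] X.residueField ξ where
  toFun x := X.evaluation W ξ hξ (co ν (ProperFin.h0Sec _ x) le_top he)
  map_add' x y := by
    rw [← map_add]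
    congr 1
    refine co_unique _ _ _ ?_
    rw [map_add, add_smul, ← co_spec, ← co_spec]
    exact map_add ((CohB1.tensorPow M ν).presheaf.map (homOfLE le_top).op).hom _ _
  map_smul' a x := by
    have hev : X.evaluation W ξ hξ (rres (le_top : W ≤ ⊤)
        (show Γ(X, ⊤) from Coh.toGlobal (X ↘ Spec (CommRingCat.of k)) a)) = scal k ξ a := by
      show (X.residue ξ).hom (X.presheaf.germ W ξ hξ _) = (X.residue ξ).hom (X.presheaf.germ ⊤ ξ trivial _)
      exact congrArg (X.residue ξ).hom (X.presheaf.germ_res_apply (homOfLE le_top) ξ hξ _)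
    rw [show co ν (ProperFin.h0Sec _ (a • x)) le_top he =
      rres (le_top : W ≤ ⊤) (show Γ(X, ⊤) from Coh.toGlobal (X ↘ Spec (CommRingCat.of k)) a) *
        co ν (ProperFin.h0Sec _ x) le_top he from ?_, map_mul, hev]
    · rfl
    · refine co_unique _ _ _ ?_
      rw [← smul_smul, ← co_spec, ← res_smul]
      exact congrArg _ (ProperFin.h0Sec_smul _ _ x)

theorem val_apply (he : IsGen M W e) (hξ : ξ ∈ W) (ν : ℕ) (x : Coh.HH X (CohB1.tensorPow M ν) 0) :
    val k he hξ ν x = X.evaluation W ξ hξ (co ν (ProperFin.h0Sec _ x) le_top he) := rfl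

omit [X.Over (Spec (CommRingCat.of k))] in
theorem sec_hom {N : X.Modules} (σ : Γ(N, ⊤)) : sec (homOfSec σ) ⊤ = σ := by rw [sec_homOfSec, res_self]

theorem val_eq_zero_iff (he : IsGen M W e) (hξ : ξ ∈ W) {ν : ℕ} (x : Coh.HH X (CohB1.tensorPow M ν) 0) :
    val k he hξ ν x = 0 ↔ ξ ∉ CohB1.genLocus _ (homOfSec (ProperFin.h0Sec _ x)) := by
  rw [val_apply, Scheme.evaluation_eq_zero_iff_notMem_basicOpen]
  refine not_congr ?_
  rw [show X.basicOpen (co ν (ProperFin.h0Sec _ x) le_top he) =
    CohB1.genLocus _ (homOfSec (ProperFin.h0Sec _ x)) ⊓ W by rw [genLocus_inf_eq he, sec_hom]]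
  exact ⟨fun h => h.1, fun h => ⟨h, hξ⟩⟩

/-- The dimension of the space of sections of `M^ν` on the closure of `ξ`. -/
def rk (he : IsGen M W e) (hξ : ξ ∈ W) (ν : ℕ) : ℕ := Module.finrank k (LinearMap.range (val k he hξ ν))

variable [IsProper (X ↘ Spec (CommRingCat.of k))]

theorem finite_sections (hM : PicF.IsInvertible M) (ν : ℕ) :
    Module.Finite k (Coh.HH X (CohB1.tensorPow M ν) 0) := by
  haveI := EulerChar.isNoetherian k (X := X)
  exact EulerChar.finite_HH k _ (BigVol.isCoh_of_isInvertible (AmpleLib.isInvertible_tensorPow hM ν)) 0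

theorem rk_le (hM : PicF.IsInvertible M) (he : IsGen M W e) (hξ : ξ ∈ W) (ν : ℕ) :
    rk k he hξ ν ≤ Module.finrank k (Coh.HH X (CohB1.tensorPow M ν) 0) := by
  haveI := finite_sections k hM ν
  exact LinearMap.finrank_range_le _

/-- A section not vanishing at `ξ` but vanishing at the specialisation `η`. -/
theorem rk_succ (hM : PicF.IsInvertible M) (he : IsGen M W e) {η : X} (hη : η ∈ W) (h : ξ ⤳ η)
    (s : Coh.structureModule X ⟶ CohB1.tensorPow M 1) (hs : ξ ∈ CohB1.genLocus _ s)
    (hsη : η ∉ CohB1.genLocus _ s) (ν : ℕ) :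
    rk k he (h.mem_open W.2 hη) ν + rk k he hη (ν + 1) ≤ rk k he (h.mem_open W.2 hη) (ν + 1) := by
  have hξ : ξ ∈ W := h.mem_open W.2 hη
  haveI := finite_sections k hM ν
  haveI := finite_sections k hM (ν + 1)
  let c := val k he hξ 1 ((ProperFin.h0Sec _).symm (sec s ⊤))
  have hc : c = X.evaluation W ξ hξ (co 1 (sec s ⊤) le_top he) :=
    congrArg (fun σ => X.evaluation W ξ hξ (co 1 σ le_top he)) ((ProperFin.h0Sec _).apply_symm_apply _)
  have hc0 : c ≠ 0 := by
    rw [hc, Scheme.evaluation_ne_zero_iff_mem_basicOpen, ← genLocus_inf_eq he]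
    exact ⟨hs, hξ⟩
  let f := val k he hξ (ν + 1)
  let g := val k he hη (ν + 1)
  have hker : LinearMap.ker f ≤ LinearMap.ker g := fun x hx => by
    rw [LinearMap.mem_ker, val_eq_zero_iff] at hx ⊢
    exact fun hmem => hx (h.mem_open (CohB1.genLocus _ _).2 hmem)
  have hmap : (LinearMap.range (val k he hξ ν)).map (LinearMap.mulLeft k c) ≤ (LinearMap.ker g).map f := by
    rintro _ ⟨_, ⟨x, rfl⟩, rfl⟩
    obtain ⟨r, hr⟩ := exists_mul hM s (homOfSec (ProperFin.h0Sec _ x)) (ν + 1) (Nat.add_comm _ _)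
    refine ⟨(ProperFin.h0Sec _).symm (sec r ⊤), ?_, ?_⟩
    · rw [SetLike.mem_coe, LinearMap.mem_ker, val_apply, AddEquiv.apply_symm_apply, hr W e he, map_mul]
      refine mul_eq_zero_of_left ?_ _
      rw [Scheme.evaluation_eq_zero_iff_notMem_basicOpen, ← genLocus_inf_eq he]
      exact fun h => hsη h.1
    · rw [val_apply, AddEquiv.apply_symm_apply, hr W e he, map_mul, sec_hom, LinearMap.mulLeft_apply, hc]
      rfl
  have e1 : Module.finrank k ((LinearMap.range (val k he hξ ν)).map (LinearMap.mulLeft k c)) = rk k he hξ ν :=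
    ((Submodule.equivMapOfInjective _ (mul_right_injective₀ hc0) _).finrank_eq).symm
  have e2 := Submodule.finrank_mono hmap
  rw [e1] at e2
  have e3 := LinearMap.finrank_range_add_finrank_ker f
  have e4 := LinearMap.finrank_range_add_finrank_ker g
  have e5 : Module.finrank k ((LinearMap.ker g).map f) + Module.finrank k (LinearMap.ker f) =
      Module.finrank k (LinearMap.ker g) := by
    have := LinearMap.finrank_range_add_finrank_ker (f.domRestrict (LinearMap.ker g))
    rwa [LinearMap.range_domRestrict, LinearMap.ker_domRestrict,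
      (Submodule.comapSubtypeEquivOfLe hker).finrank_eq] at this
  show Module.finrank k (LinearMap.range (val k he hξ ν)) + Module.finrank k (LinearMap.range g) ≤
    Module.finrank k (LinearMap.range f)
  change rk k he hξ ν ≤ _ at e2
  change rk k he hξ ν + _ ≤ _
  omega

/-- The rank does not depend on the trivialisation. -/
theorem rk_eq (hM : PicF.IsInvertible M) (he : IsGen M W e) (hξ : ξ ∈ W) {W' : X.Opens} {e' : Γ(M, W')}
    (he' : IsGen M W' e') (hξ' : ξ ∈ W') (ν : ℕ) : rk k he hξ ν = rk k he' hξ' ν := by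
  haveI := finite_sections k hM ν
  have h1 := LinearMap.finrank_range_add_finrank_ker (val k he hξ ν)
  have h2 := LinearMap.finrank_range_add_finrank_ker (val k he' hξ' ν)
  have hk : LinearMap.ker (val k he hξ ν) = LinearMap.ker (val k he' hξ' ν) := by
    ext x
    rw [LinearMap.mem_ker, LinearMap.mem_ker, val_eq_zero_iff, val_eq_zero_iff]
  rw [hk] at h1
  unfold rk
  omega

omit [IsProper (X ↘ Spec (CommRingCat.of k))] in
/-- A globally generated module has, at every point, a section of the first power generating there. -/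
theorem exists_sec (hM : PicF.IsInvertible M) (hgg : Curv2.IsGloballyGenerated M) (ξ : X) :
    ∃ (s : Coh.structureModule X ⟶ M) (s₁ : Coh.structureModule X ⟶ CohB1.tensorPow M 1),
      ξ ∈ CohB1.genLocus M s ∧ CohB1.genLocus _ s₁ = CohB1.genLocus M s := by
  obtain ⟨σ, hσ⟩ := DimOneAmple.exists_genLocus_mem hM hgg ξ
  refine ⟨homOfSec σ, homOfSec σ ≫ (show CohB1.tensorPow M 1 ≅ M from oneTens M).inv, ?_,
    AbExt.genLocus_comp _ _⟩
  rw [AmpleLib.genLocus_homOfSec]
  exact hσ

theorem one_le_rk (hM : PicF.IsInvertible M) (hgg : Curv2.IsGloballyGenerated M) (he : IsGen M W e)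
    (hξ : ξ ∈ W) (ν : ℕ) : 1 ≤ rk k he hξ ν := by
  haveI := finite_sections k hM ν
  obtain ⟨t, ht⟩ : ∃ t : Coh.structureModule X ⟶ CohB1.tensorPow M ν, ξ ∈ CohB1.genLocus _ t := by
    rcases Nat.eq_zero_or_pos ν with rfl | hν
    · refine ⟨𝟙 _, (mem_genLocus_iff _ ξ).2 ⟨⊤, trivial, (isIso_restrict_iff _ _).1 ?_⟩⟩
      show IsIso ((Scheme.Modules.restrictFunctor (⊤ : X.Opens).ι).map (𝟙 (CohB1.tensorPow M 0)))
      rw [CategoryTheory.Functor.map_id]
      infer_instance
    · obtain ⟨s, s₁, hs, hs₁⟩ := exists_sec hM hgg ξ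
      obtain ⟨t, ht⟩ := exists_pow hM s₁ ν ν (one_mul ν).symm
      exact ⟨t, by rw [genLocus_pow hM s₁ hν t ht, hs₁]; exact hs⟩
  refine Nat.one_le_iff_ne_zero.2 fun h => ?_
  have h0 : val k he hξ ν ((ProperFin.h0Sec _).symm (sec t ⊤)) ∈ LinearMap.range (val k he hξ ν) :=
    LinearMap.mem_range_self _ _
  rw [Submodule.finrank_eq_zero.1 h, Submodule.mem_bot, val_apply, AddEquiv.apply_symm_apply,
    Scheme.evaluation_eq_zero_iff_notMem_basicOpen, ← genLocus_inf_eq he] at h0
  exact h0 ⟨ht, hξ⟩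

/-- Cutting the closure of a point by a section of `M` not vanishing at it. -/
theorem cut_point (hM : PicF.IsInvertible M) (hgg : Curv2.IsGloballyGenerated M) (ξ : X) {m : ℕ}
    (hξd : topologicalKrullDim ↥(closure ({ξ} : Set X)) = ((m + 1 : ℕ) : WithBot ℕ∞)) :
    ∃ (s₁ : Coh.structureModule X ⟶ CohB1.tensorPow M 1) (Q : X.Modules),
      ξ ∈ CohB1.genLocus _ s₁ ∧ Coh.IsCoh Q ∧ topologicalKrullDim ↥(CohB1.support Q) ≤ (m : WithBot ℕ∞) ∧
      (∀ η ∈ CohB1.support Q, η ∈ closure ({ξ} : Set X) ∧ η ∉ CohB1.genLocus _ s₁) ∧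
      iC k (List.replicate (m + 1) M) (Cyc.closureStructureSheaf ξ) = iC k (List.replicate m M) Q := by
  haveI := EulerChar.isNoetherian k (X := X)
  obtain ⟨s, s₁, hs, hs₁⟩ := exists_sec hM hgg ξ
  have hF : Coh.IsCoh (Cyc.closureStructureSheaf ξ) := CohDev.isCoh_oz ξ
  have hT := Snapper.isCoh_tensorMod k hM hF
  have hFM : Coh.IsCoh (CohDev.tens (Cyc.closureStructureSheaf ξ) M) := CohDev.isCoh_of_iso (tensComm _ _) hT
  let φ := HilbPolyX.mulSec (Cyc.closureStructureSheaf ξ) s
  haveI : Mono φ := by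
    refine Preadditive.mono_of_isZero_kernel φ ?_
    by_contra hk
    obtain ⟨z, hz⟩ := CohDev.exists_assoc (CohDev.isCoh_kernel' φ hF hFM) hk
    have hzx : z = ξ := CohDev.eq_of_assoc_oz ξ (CohDev.assoc_of_mono (kernel.ι φ) hz)
    have hzm := CohDev.mem_support_of_assoc hz
    rw [hzx] at hzm
    exact CohDev.not_mem_support_kernel φ (HilbPolyX.mulSec_bijective _ s hs).1 hzm
  let ψ : Cyc.closureStructureSheaf ξ ⟶ CohB1.tensorMod M (Cyc.closureStructureSheaf ξ) :=
    φ ≫ (tensComm (Cyc.closureStructureSheaf ξ) M).hom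
  haveI : Mono ψ := mono_comp _ _
  have hQ : Coh.IsCoh (cokernel ψ) := CohDev.isCoh_cokernel ψ hF.1 hT
  have hsupp : ∀ η ∈ CohB1.support (cokernel ψ), η ∈ closure ({ξ} : Set X) ∧ η ∉ CohB1.genLocus _ s₁ := by
    intro η hη
    have hη' : η ∈ CohB1.support (cokernel φ) :=
      CohDev.support_subset_of_epi (cokernelCompIsIso φ (tensComm (Cyc.closureStructureSheaf ξ) M).hom).inv hη
    refine ⟨CohDev.support_oz_subset ξ (HilbPolyX.support_tensorMod_subset _ _
      (CohDev.support_subset_of_epi (cokernel.π φ) hη')), fun h => ?_⟩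
    rw [hs₁] at h
    exact CohDev.not_mem_support_cokernel φ (HilbPolyX.mulSec_bijective _ s h).2 hη'
  refine ⟨s₁, cokernel ψ, hs₁ ▸ hs, hQ, Snapper.le_of_lt_succ (CohDev.dim_lt_of_irreducible
    (CohDev.isClosed_support hQ) isIrreducible_singleton.closure (fun η hη => (hsupp η hη).1)
    (fun h => (hsupp ξ (h (subset_closure rfl))).2 (hs₁ ▸ hs)) hξd.le), hsupp, ?_⟩
  rw [List.replicate_succ]
  have hl : ∀ A ∈ List.replicate m M, PicF.IsInvertible A := fun A hA => (List.eq_of_mem_replicate hA) ▸ hM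
  exact iC_cons_mono k (l := List.replicate m M) hl (A := M) (G := Cyc.closureStructureSheaf ξ) hM hF ψ hQ

/-- Some component carries a nonzero number. -/
theorem exists_piece {l : List X.Modules} (hl : ∀ A ∈ l, PicF.IsInvertible A) {Q : X.Modules}
    (hQ : Coh.IsCoh Q) (hd : topologicalKrullDim ↥(CohB1.support Q) ≤ (l.length : WithBot ℕ∞))
    (h : iC k l Q ≠ 0) : ∃ η ∈ CohB1.support Q,
      topologicalKrullDim ↥(closure ({η} : Set X)) = (l.length : WithBot ℕ∞) ∧
      iC k l (Cyc.closureStructureSheaf η) ≠ 0 := by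
  haveI := EulerChar.isNoetherian k (X := X)
  by_contra hcon
  push Not at hcon
  apply h
  have hfin := finite_top (CohDev.isClosed_support hQ) hd
  have hN : ∀ i : Fin l.length, PicF.IsInvertible (l.get i) := fun i => hl _ (List.get_mem l i)
  rw [iC_get k hl hQ, intC, intE_components k hN (CohDev.isClosed_support hQ) hd hfin.toFinset
    (fun ξ => hfin.mem_toFinset) hQ subset_rfl, Finset.mul_sum]
  refine Finset.sum_eq_zero fun ξ hξ => ?_
  have h1 := hcon ξ (hfin.mem_toFinset.1 hξ).1 (hfin.mem_toFinset.1 hξ).2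
  rw [iC_get k hl (CohDev.isCoh_oz ξ), intC] at h1
  rw [mul_left_comm, h1, mul_zero]

/-- `C(ν + m, m)` sections on a subvariety of nonzero degree. -/
theorem choose_le_rk (hM : PicF.IsInvertible M) (hgg : Curv2.IsGloballyGenerated M) :
    ∀ (m : ℕ) (ξ : X), topologicalKrullDim ↥(closure ({ξ} : Set X)) = (m : WithBot ℕ∞) →
      iC k (List.replicate m M) (Cyc.closureStructureSheaf ξ) ≠ 0 →
      ∀ (W : X.Opens) (e : Γ(M, W)) (he : IsGen M W e) (hξ : ξ ∈ W) (ν : ℕ),
        (ν + m).choose m ≤ rk k he hξ ν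
  | 0, ξ, _, _, W, e, he, hξ, ν => by
    rw [Nat.choose_zero_right]
    exact one_le_rk k hM hgg he hξ ν
  | m + 1, ξ, hξd, hne, W, e, he, hξ, ν => by
    obtain ⟨s₁, Q, hs, hQ, hQd, hsupp, heq⟩ := cut_point k hM hgg ξ hξd
    rw [heq] at hne
    have hl : ∀ A ∈ List.replicate m M, PicF.IsInvertible A := fun A hA => (List.eq_of_mem_replicate hA) ▸ hM
    obtain ⟨η, hηQ, hηd, hηne⟩ := exists_piece k hl hQ (by simpa using hQd) hne
    rw [List.length_replicate] at hηd
    obtain ⟨hηcl, hsη⟩ := hsupp η hηQ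
    have hsp : ξ ⤳ η := specializes_iff_mem_closure.2 hηcl
    obtain ⟨W', e', hηW', he'⟩ := exists_isGen hM η
    rw [rk_eq k hM he hξ he' (hsp.mem_open W'.2 hηW') ν]
    induction ν with
    | zero =>
      rw [Nat.zero_add, Nat.choose_self]
      exact one_le_rk k hM hgg he' _ 0
    | succ ν ih =>
      have h1 := rk_succ k hM he' hηW' hsp s₁ hs hsη ν
      have h2 := choose_le_rk hM hgg m η hηd hηne W' e' he' hηW' (ν + 1)
      have hc : (ν + 1 + (m + 1)).choose (m + 1) = (ν + 1 + m).choose m + (ν + (m + 1)).choose (m + 1) := by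
        rw [show ν + 1 + (m + 1) = ν + 1 + m + 1 by omega, Nat.choose_succ_succ,
          show ν + (m + 1) = ν + 1 + m by omega]
      omega

/-- Sections of powers grow as `ν^m` when some `m`-dimensional number is nonzero. -/
theorem pow_le_factorial_mul_h0 (hM : PicF.IsInvertible M) (hgg : Curv2.IsGloballyGenerated M) {m : ℕ} {ξ : X}
    (hξd : topologicalKrullDim ↥(closure ({ξ} : Set X)) = (m : WithBot ℕ∞))
    (hne : iC k (List.replicate m M) (Cyc.closureStructureSheaf ξ) ≠ 0) (ν : ℕ) :
    ν ^ m ≤ m.factorial * Module.finrank k (Coh.HH X (CohB1.tensorPow M ν) 0) := by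
  obtain ⟨W, e, hξ, he⟩ := exists_isGen hM ξ
  refine le_trans ?_ (Nat.mul_le_mul_left _
    ((choose_le_rk k hM hgg m ξ hξd hne W e he hξ ν).trans (rk_le k hM he hξ ν)))
  rw [← Nat.ascFactorial_eq_factorial_mul_choose]
  exact (Nat.pow_le_pow_left (Nat.le_succ ν) m).trans (Nat.pow_succ_le_ascFactorial _ _)

/-- Powers in the list. -/
theorem iC_replicate_pow {L : X.Modules} (hL : PicF.IsInvertible L) (μ : ℕ) {G : X.Modules} (hG : Coh.IsCoh G)
    {m : ℕ} (hd : topologicalKrullDim ↥(CohB1.support G) ≤ (m : WithBot ℕ∞)) :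
    iC k (List.replicate m (CohB1.tensorPow L μ)) G = (μ : ℤ) ^ m * iC k (List.replicate m L) G := by
  suffices h : ∀ a b, a + b = m → iC k (List.replicate a (CohB1.tensorPow L μ) ++ List.replicate b L) G =
      (μ : ℤ) ^ a * iC k (List.replicate m L) G by simpa using h m 0 rfl
  intro a
  induction a with
  | zero => intro b hb; simp [← hb]
  | succ a ih =>
    intro b hb
    have hl : ∀ A ∈ List.replicate a (CohB1.tensorPow L μ) ++ List.replicate b L, PicF.IsInvertible A := by
      intro A hA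
      rcases List.mem_append.1 hA with h | h
      · exact (List.eq_of_mem_replicate h) ▸ AmpleLib.isInvertible_tensorPow hL μ
      · exact (List.eq_of_mem_replicate h) ▸ hL
    have hlen : (List.replicate a (CohB1.tensorPow L μ) ++ List.replicate b L).length + 1 = m := by
      simp only [List.length_append, List.length_replicate]; omega
    rw [List.replicate_succ, List.cons_append, iC_pow k hl hL hG (hlen.symm ▸ hd) μ,
      iC_perm k (show (L :: (List.replicate a (CohB1.tensorPow L μ) ++ List.replicate b L)).Perm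
        (List.replicate a (CohB1.tensorPow L μ) ++ List.replicate (b + 1) L) from List.perm_middle.symm),
      ih (b + 1) (by omega), pow_succ]
    ring

/-- A module with a globally generated power is nef. -/
theorem nef_of_semiample {L : X.Modules} (hL : PicF.IsInvertible L) {μ : ℕ} (hμ : 0 < μ)
    (hgg : Curv2.IsGloballyGenerated (CohB1.tensorPow L μ)) : Nef k X L := by
  intro C _ hdim
  haveI := EulerChar.isNoetherian k (X := X)
  have hQ : Coh.IsCoh (ClSub.quotMod C) := EulerChar.isCoh_quotMod k C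
  have hd : topologicalKrullDim ↥(CohB1.support (ClSub.quotMod C)) ≤ ((1 : ℕ) : WithBot ℕ∞) :=
    (CohDev.dim_mono (EulerChar.support_quotMod_subset C)).trans (hdim.trans Nat.cast_one.symm).le
  have hl : ∀ A ∈ [L], PicF.IsInvertible A := fun A hA => (List.mem_singleton.1 hA) ▸ hL
  have h : 0 ≤ iC k [L] (ClSub.quotMod C) := by
    refine iC_nonneg_of_pieces k hl hQ (e := 1) rfl hd fun ξ hξ => ?_
    have hM := AmpleLib.isInvertible_tensorPow hL μ
    obtain ⟨-, Q, -, hQc, hQd, -, heq⟩ := cut_point k hM hgg ξ (m := 0) hξ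
    have h1 := iC_replicate_pow k hL μ (CohDev.isCoh_oz ξ) (m := 1)
      ((CohDev.dim_mono (CohDev.support_oz_subset ξ)).trans hξ.le)
    rw [heq, pow_one] at h1
    have h2 : 0 ≤ iC k (List.replicate 0 (CohB1.tensorPow L μ)) Q :=
      EulerChar.euler_nonneg_of_support k hQc hQd
    rw [h1] at h2
    exact nonneg_of_mul_nonneg_right h2 (by exact_mod_cast hμ)
  rw [iC_cons, iC_nil, iC_nil, EulerChar.euler_iso k (tensComm L (ClSub.quotMod C))] at h
  exact h

end Groth.Agent.NefPos.SecRank
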